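import Groth.Agent.EGA73.ImmersionPn
import Groth.Agent.EGA73.BundleImmersion
import Groth.Prelude.Def_Twist2

/-!
Morphisms to projective space over a ring with prescribed coordinates
-/

set_option autoImplicit false
set_option backward.isDefEq.respectTransparency.types false

universe u

open CategoryTheory CategoryTheory.Limits AlgebraicGeometry Opposite TopologicalSpace
open HomogeneousLocalization

noncomputable section

namespace Groth.Agent.Curves2.VeryAmple

open Groth.Agent.Var76.LineBundle Groth.Agent.Var76.ZeroScheme Groth.Agent.Amp73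

variable {R : Type u} [CommRing R] {X : Scheme.{u}}

/-- Sections whose ratios generate give an immersion with exactly these coordinates. -/
theorem exists_immersion_of_sections (q : X ⟶ Spec (CommRingCat.of R)) (M : X.Modules) (hM : PicF.IsInvertible M)
    (n : ℕ) (u : Fin (n + 1) → ProjUP.Γm M)
    (h : ∀ z : X, ∃ (j : Fin (n + 1)) (G : X.Opens),
      G = CohB1.genLocus M (Var76.Frames.ofSection M (u j)) ∧ z ∈ G ∧ IsAffineOpen G ∧
        Subring.closure (Set.range (fun c : R => fres (le_top : G ≤ ⊤) (ProjUP.toGlobal q c)) ∪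
          {a | ∃ j', a • res M (le_top : G ≤ ⊤) (u j) = res M (le_top : G ≤ ⊤) (u j')}) = ⊤) :
    ∃ i : X ⟶ CohB1.ProjSpace n R, IsImmersion i ∧ i ≫ CohB1.ProjSpace.toSpec n R = q ∧
      Nonempty ((Scheme.Modules.pullback i).obj (Twist.twistProjSpace n R 1) ≅ M) := by
  classical
  let v : (Fin (n + 1) → R) →+ ProjUP.Γm M :=
    AddMonoidHom.mk' (fun c => ∑ k, ProjUP.toGlobal q (c k) • u k)
      fun a b => by simp [add_smul, Finset.sum_add_distrib]
  have hv1 : ∀ k, v (Pi.single k 1) = u k := fun k => by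
    show ∑ i, ProjUP.toGlobal q ((Pi.single k 1 : Fin (n + 1) → R) i) • u i = u k
    rw [Finset.sum_eq_single k (fun i _ hi => by simp [Pi.single_eq_of_ne hi]) (by simp)]
    simp
  have hgen : ProjUP.GeneratedBy M v := EGA73.ImmersionPn.generatedBy_of_genLocus M v fun z => by
    obtain ⟨j, G, rfl, hj, -, -⟩ := h z
    refine ⟨Pi.single j 1, ?_⟩
    rwa [hv1]
  let 𝒬p := CohB1.polyGrading n R
  obtain ⟨r, hr, τ, hτ⟩ := EGA73.ProjUniv.exists_to_proj (𝒮 := 𝒬p) q (EGA73.PolySym.linForm_mem n R)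
    (EGA73.PolySym.isSymmetricAlgebra_linForm n R) M hM v
    (fun a c => by
      show ∑ k, ProjUP.toGlobal q (a * c k) • u k = ProjUP.toGlobal q a • ∑ k, ProjUP.toGlobal q (c k) • u k
      simp only [Finset.smul_sum, smul_smul, map_mul]) hgen
  let Xk : Fin (n + 1) → 𝒬p 1 := fun k => ⟨MvPolynomial.X k, MvPolynomial.isHomogeneous_X R k⟩
  let T1 := Twist.twist 𝒬p 1
  let P1 := (Scheme.Modules.pullback r).obj T1
  have hτ' : ∀ k, τ.hom.app ⊤ (pullS r T1 ⊤ (Var76.ProjFrame.sect 𝒬p (Xk k))) = u k := fun k => by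
    have h1 := hτ (Pi.single k 1)
    rw [hv1] at h1
    refine Eq.trans ?_ h1
    refine congrArg (fun s => τ.hom.app ⊤ (ProjUP.pullSec r T1 (Twist.globalOf 𝒬p s))) (Subtype.ext ?_)
    exact (EGA73.PolySym.linForm_single n R k).symm
  let D : Fin (n + 1) → (Proj 𝒬p).Opens := fun j => Proj.basicOpen 𝒬p (MvPolynomial.X j)
  have hirr : (HomogeneousIdeal.irrelevant 𝒬p).toIdeal = Ideal.span (𝒬p 1 : Set (MvPolynomial (Fin (n + 1)) R)) :=
    EGA73.ProjUniv.irrelevant_eq_span_one (EGA73.PolySym.linForm_mem n R) (EGA73.PolySym.isSymmetricAlgebra_linForm n R)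
  have hG : ∀ j, r ⁻¹ᵁ D j = CohB1.genLocus M (Var76.Frames.ofSection M (u j)) := fun j => by
    have e1 : CohB1.genLocus _ (pullHom r (degOneHom 𝒬p (Xk j))) = r ⁻¹ᵁ D j := by
      rw [genLocus_pullHom r (EGA73.isInvertible_twist hirr 1), genLocus_degOneHom hirr]
    rw [← e1, ← genLocus_comp_iso _ τ.hom]
    have e2 : ∀ W : X.Opens, val M (pullHom r (degOneHom 𝒬p (Xk j)) ≫ τ.hom) W =
          val M (Var76.Frames.ofSection M (u j)) W := fun W => by
        have h3 : val M (pullHom r (degOneHom 𝒬p (Xk j)) ≫ τ.hom) ⊤ = u j := by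
          show τ.hom.app ⊤ (val P1 (pullHom r (degOneHom 𝒬p (Xk j))) ⊤) = u j
          refine Eq.trans ?_ (hτ' _)
          refine congrArg (τ.hom.app ⊤) ((val_pullHom r _ ⊤).trans (congrArg (pullS r T1 ⊤) ?_))
          exact (Var76.Frames.val_ofSection _ _ ⊤).trans (Amp73.res_self _ _)
        rw [← res_val M _ (le_top : W ≤ ⊤), h3, Var76.Frames.val_ofSection]
    refine le_antisymm ?_ ?_
    all_goals rw [← isFrame_iff_le_genLocus]
    · rw [← e2]
      exact (isFrame_iff_le_genLocus _ _).2 le_rfl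
    · rw [e2]
      exact (isFrame_iff_le_genLocus _ _).2 le_rfl
  have hratio : ∀ (j j' : Fin (n + 1)) (G : X.Opens) (hGe : G = CohB1.genLocus M (Var76.Frames.ofSection M (u j)))
      (hle : G ≤ r ⁻¹ᵁ D j) (a : Γ(X, G)),
      a • res M (le_top : G ≤ ⊤) (u j) = res M (le_top : G ≤ ⊤) (u j') → a ∈ (r.appLE (D j) G hle).hom.range := by
    intro j j' G hGe hle a ha
    refine ⟨Proj.awayToSection 𝒬p _ (HomogeneousLocalization.mk
      ⟨1, Xk j', Xk j, ⟨1, pow_one _⟩⟩), ?_⟩
    have he : IsFrame M G (res M le_top (u j)) := by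
      subst hGe
      rw [← Var76.Frames.val_ofSection]
      exact isFrame_genLocus _
    refine (he G le_rfl).1 ?_
    simp only [Amp73.res_self]
    rw [ha]
    have h1 := congrArg (fun s => τ.hom.app G (res P1 hle (pullS r T1 (D j) s)))
      (Var76.ProjFrame.away_smul_frame 𝒬p (Xk j) (Xk j'))
    have hres : ∀ k, τ.hom.app G (res P1 hle (pullS r T1 (D j) (res T1 le_top (Var76.ProjFrame.sect 𝒬p (Xk k))))) =
        res M le_top (u k) := fun k => by
      rw [← res_pullS, res_res, Mero90.app_res]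
      exact congrArg (res M le_top) (hτ' k)
    simp only [pullS_smul, res_smul, Scheme.Modules.Hom.app_smul] at h1
    rw [hres, hres] at h1
    exact h1
  have hcongr : ∀ {A B : Scheme.{u}} (φ φ' : A ⟶ B) (_ : φ = φ') (U : B.Opens) (G : A.Opens) (e : G ≤ φ ⁻¹ᵁ U)
      (e' : G ≤ φ' ⁻¹ᵁ U) (c : Γ(B, U)), φ.appLE U G e c = φ'.appLE U G e' c := by
    rintro A B φ _ rfl U G e e' c
    rfl
  refine ⟨r, EGA73.BundleImmersion.isImmersion_of_charts r fun z => ?_, hr, ⟨τ⟩⟩
  obtain ⟨j, G, hGe, hz, haff, hcl⟩ := h z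
  have hpre : r ⁻¹ᵁ D j = G := (hG j).trans hGe.symm
  refine ⟨D j, Proj.isAffineOpen_basicOpen _ _ (Xk _).2 one_pos,
    (show z ∈ r ⁻¹ᵁ D j by rw [hpre]; exact hz), hpre ▸ haff, ?_⟩
  have key : ∀ (e : G ≤ r ⁻¹ᵁ D j), Function.Surjective (r.appLE (D j) G e) := by
    intro e a
    have hsub : Subring.closure (Set.range (fun c : R => fres (le_top : G ≤ ⊤) (ProjUP.toGlobal q c)) ∪
        {a | ∃ j', a • res M (le_top : G ≤ ⊤) (u j) = res M (le_top : G ≤ ⊤) (u j')}) ≤
        (r.appLE (D j) G e).hom.range := by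
      rw [Subring.closure_le]
      rintro b (⟨c, rfl⟩ | ⟨j', hj'⟩)
      · refine ⟨(CohB1.ProjSpace.toSpec n R).appLE ⊤ (D j) le_top ((Scheme.ΓSpecIso (CommRingCat.of R)).inv c), ?_⟩
        refine (ConcreteCategory.congr_hom (Scheme.Hom.appLE_comp_appLE r _ ⊤ (D j) G le_top e) _).trans ?_
        refine (hcongr _ _ hr ⊤ _ _ le_top _).trans ?_
        rfl
      · exact hratio j j' G hGe e b hj'
    exact hsub (hcl.ge (Subring.mem_top a))
  have h2 : ∀ (W : X.Opens) (_ : W = G) (e : W ≤ r ⁻¹ᵁ D j), Function.Surjective (r.appLE (D j) W e) := by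
    rintro W rfl e
    exact key e
  rw [← Scheme.Hom.appLE_eq_app]
  exact h2 _ hpre le_rfl

end Groth.Agent.Curves2.VeryAmple
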