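import Groth.Agent.Curves2.VeryAmple.Span
import Groth.Agent.Curves2.PointTwists
import Groth.Agent.Curves2.CurvePlaces
import Groth.Agent.EGA73.CurveVal
import Mathlib.RingTheory.Jacobson.Ring

/-!
Ratios of sections of an invertible module of large degree generate all functions
-/

set_option autoImplicit false
set_option linter.style.haveILetI false
set_option backward.isDefEq.respectTransparency false
set_option backward.isDefEq.respectTransparency.types false

universe u

open CategoryTheory CategoryTheory.Limits AlgebraicGeometry TopologicalSpace Opposite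
open Groth.Agent.Var76.LineBundle Groth.Agent.Var76.ZeroScheme Groth.Agent.Amp73

noncomputable section

namespace Groth.Agent.Curves2.VeryAmple

variable {k : Type u} [Field k] {X : Scheme.{u}} [X.Over (Spec (CommRingCat.of k))]

theorem fromSpec_comp {G : X.Opens} (hG : IsAffineOpen G) :
    hG.fromSpec ≫ (X ↘ Spec (CommRingCat.of k)) = Spec.map (CommRingCat.ofHom (constH (k := k) G)) := by
  have e := IsAffineOpen.SpecMap_appLE_fromSpec (X ↘ Spec (CommRingCat.of k)) (isAffineOpen_top _) hG
    (le_top : G ≤ (X ↘ Spec (CommRingCat.of k)) ⁻¹ᵁ ⊤)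
  rw [← e, IsAffineOpen.fromSpec_top, Scheme.isoSpec_Spec_inv, ← Spec.map_comp]
  rfl

variable [IsIntegral X] [IsProper (X ↘ Spec (CommRingCat.of k))]

/-- A valuation ring containing the ratios contains all functions on the locus of generation. -/
theorem germ_mem_valuationSubring {L : X.Modules}
    (s : Γ(L, ⊤)) (G : X.Opens) (hGs : G = CohB1.genLocus L (Var76.Frames.ofSection L s))
    (hG : IsAffineOpen G) (hη : genericPoint X ∈ G)
    (hgen : ∀ x : X, ∃ t : Γ(L, ⊤), x ∈ CohB1.genLocus L (Var76.Frames.ofSection L t))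
    (V : ValuationSubring X.functionField)
    (hk : ∀ c : k, X.presheaf.germ G _ hη (constH G c) ∈ V)
    (hrat : ∀ (t : Γ(L, ⊤)) (a : Γ(X, G)), a • res L (le_top : G ≤ ⊤) s = res L (le_top : G ≤ ⊤) t →
      X.presheaf.germ G _ hη a ∈ V) (b : Γ(X, G)) : X.presheaf.germ G _ hη b ∈ V := by
  let φ : k →+* V := ((X.presheaf.germ G _ hη).hom.comp (constH (k := k) G)).codRestrict V.toSubring hk
  obtain ⟨x, hx1, hx2⟩ := EGA73.exists_centre (X ↘ Spec (CommRingCat.of k)) V
    (Spec.map (CommRingCat.ofHom φ)) (by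
      rw [← hG.fromSpecStalk_eq_fromSpecStalk hη, IsAffineOpen.fromSpecStalk, Category.assoc,
        fromSpec_comp hG, ← Spec.map_comp, ← Spec.map_comp]
      rfl)
  obtain ⟨t, ht⟩ := hgen x
  let U := CohB1.genLocus L (Var76.Frames.ofSection L t)
  have he : IsFrame L G (res L (le_top : G ≤ ⊤) s) := by
    have h := (isFrame_iff_le_genLocus (Var76.Frames.ofSection L s) G).2 hGs.le
    rwa [Var76.Frames.val_ofSection] at h
  have he' : IsFrame L U (res L (le_top : U ≤ ⊤) t) := by
    have h := (isFrame_iff_le_genLocus (Var76.Frames.ofSection L t) U).2 le_rfl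
    rwa [Var76.Frames.val_ofSection] at h
  obtain ⟨f, hf⟩ := (he' U le_rfl).2 (res L le_top s)
  obtain ⟨a, ha⟩ := (he G le_rfl).2 (res L le_top t)
  dsimp only at hf ha
  rw [Amp73.res_self] at hf ha
  have hηU : genericPoint X ∈ U := (genericPoint_specializes x).mem_open U.2 ht
  have hprod : X.presheaf.germ G _ hη a * X.presheaf.germ U _ hηU f = 1 := by
    have h : X.presheaf.map (homOfLE (inf_le_left : G ⊓ U ≤ G)).op a *
        X.presheaf.map (homOfLE (inf_le_right : G ⊓ U ≤ U)).op f = 1 := by
      refine ((he'.res (inf_le_right : G ⊓ U ≤ U)) _ le_rfl).1 ?_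
      dsimp only
      rw [Amp73.res_self, one_smul, mul_smul, ← res_smul, hf, res_res]
      have h2 := congrArg (res L (inf_le_left : G ⊓ U ≤ G)) ha
      rw [res_smul, res_res, res_res] at h2
      exact h2.trans (by rw [res_res])
    have h2 := congrArg (X.presheaf.germ (G ⊓ U) _ ⟨hη, hηU⟩) h
    rw [map_mul, map_one, TopCat.Presheaf.germ_res_apply, TopCat.Presheaf.germ_res_apply] at h2
    exact h2
  have hfu : IsUnit (X.presheaf.germ U x ht f) := by
    by_contra hn
    have h1 := hx2 _ ((IsLocalRing.mem_maximalIdeal _).2 hn)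
    rw [algebraMap_germ] at h1
    have h3 := congrArg V.valuation hprod
    rw [map_mul, map_one] at h3
    have h4 : V.valuation (X.presheaf.germ G _ hη a) ≤ 1 := (V.valuation_le_one_iff _).2 (hrat t a ha)
    exact ((mul_le_of_le_one_left' h4).trans_lt h1).ne h3
  have hxG : x ∈ G := by
    rw [hGs]
    refine mem_genLocus_iff.2 ⟨X.basicOpen f, (X.mem_basicOpen f x ht).2 hfu, ?_⟩
    rw [Var76.Frames.val_ofSection, show res L (le_top : X.basicOpen f ≤ ⊤) s =
      res L (X.basicOpen_le f) (res L le_top s) from (res_res _ _ _ _).symm, ← hf, res_smul]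
    exact (isFrame_smul_iff (he'.res (X.basicOpen_le f)) _).2
      (RingedSpace.isUnit_res_basicOpen X.toLocallyRingedSpace.toRingedSpace f)
  rw [← algebraMap_germ x hxG b]
  exact hx1 _

/-- Over an algebraically closed field the ratios generate. -/
theorem closure_eq_top [IsAlgClosed k] (hdim : topologicalKrullDim X = 1)
    (h0 : Module.finrank k (Coh.HH X (Coh.structureModule X) 0) = 1)
    (L : X.Modules) (hL : PicF.IsInvertible L)
    (hdeg : 2 * (Curv2.genus k X : ℤ) + 1 ≤ Curv2.deg k X L 1) (s : Γ(L, ⊤)) (hs : s ≠ 0)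
    (G : X.Opens) (hGs : G = CohB1.genLocus L (Var76.Frames.ofSection L s)) (hG : IsAffineOpen G) :
    Subring.closure (Set.range (constH (k := k) G) ∪
      {a | ∃ t : Γ(L, ⊤), a • res L (le_top : G ≤ ⊤) s = res L (le_top : G ≤ ⊤) t}) = ⊤ := by
  classical
  have := Crv77.isNoetherian_of_proper k X
  have hX := Crv77.curveCoh_of_proper k X hdim.le
  have hη : genericPoint X ∈ G := hGs ▸ genericPoint_mem_genLocus hL hs
  have hgen : ∀ x : X, ∃ t : Γ(L, ⊤), x ∈ CohB1.genLocus L (Var76.Frames.ofSection L t) := fun x => by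
    obtain ⟨y, hy, hxy⟩ := Crv77.exists_isClosed_specializes x
    obtain ⟨t, ht⟩ := Crv77.exists_gen_of_isGloballyGenerated hL
      (hX.isGloballyGenerated_of_deg hdim h0 hL (by omega)) hy
    exact ⟨t, hxy.mem_open (CohB1.genLocus L _).2 ht⟩
  letI : Algebra k Γ(X, G) := (constH (k := k) G).toAlgebra
  have he : IsFrame L G (res L (le_top : G ≤ ⊤) s) := by
    have h := (isFrame_iff_le_genLocus (Var76.Frames.ofSection L s) G).2 hGs.le
    rwa [Var76.Frames.val_ofSection] at h
  have einj : ∀ a a' : Γ(X, G), a • res L (le_top : G ≤ ⊤) s = a' • res L (le_top : G ≤ ⊤) s → a = a' :=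
    fun a a' h => (he G le_rfl).1 (by simpa only [Amp73.res_self] using h)
  have coord : ∀ x : Coh.HH X L 0, ∃ a : Γ(X, G),
      a • res L (le_top : G ≤ ⊤) s = res L (le_top : G ≤ ⊤) (Crv77.sec L x) := fun x => by
    obtain ⟨a, ha⟩ := (he G le_rfl).2 (res L (le_top : G ≤ ⊤) (Crv77.sec L x))
    exact ⟨a, by simpa only [Amp73.res_self] using ha⟩
  choose co hco using coord
  let Co : Coh.HH X L 0 →ₗ[k] Γ(X, G) :=
    { toFun := co
      map_add' := fun x y => einj _ _ (by rw [add_smul, hco, hco, hco, map_add, Amp73.res_add])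
      map_smul' := fun r x => einj _ _ (by
        rw [RingHom.id_apply, Algebra.smul_def, mul_smul, hco, hco, res_sec_smul]
        rfl) }
  have := hX.finite _ (Crv77.isCoh_of_isInvertible hL) 0
  obtain ⟨S, hS⟩ : (LinearMap.range Co).FG :=
    (Submodule.fg_def.2 ⟨_, (Module.finBasis k (Coh.HH X L 0)).linearIndependent |> fun _ =>
      (Set.finite_range (Co ∘ Module.finBasis k (Coh.HH X L 0))), by
        rw [Set.range_comp, Submodule.span_image, (Module.finBasis k _).span_eq, Submodule.map_top]⟩)
  let A := Algebra.adjoin k (S : Set Γ(X, G))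
  have hratA : ∀ (t : Γ(L, ⊤)) (a : Γ(X, G)),
      a • res L (le_top : G ≤ ⊤) s = res L (le_top : G ≤ ⊤) t → a ∈ A := fun t a ha => by
    have e : a = Co ((Crv77.sec L).symm t) := einj _ _ (by
      show _ = co _ • _
      rw [hco, AddEquiv.apply_symm_apply, ha])
    rw [e]
    exact Algebra.span_le_adjoin k _ (hS ▸ LinearMap.mem_range_self Co _)
  suffices hA : A = ⊤ by
    refine eq_top_iff.2 fun b _ => ?_
    have hb : b ∈ A.toSubring := by
      rw [hA]
      trivial
    rw [Algebra.adjoin_eq_ring_closure] at hb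
    change b ∈ Subring.closure (Set.range (constH (k := k) G) ∪ (S : Set Γ(X, G))) at hb
    refine Subring.closure_mono ?_ hb
    refine Set.union_subset_union_right _ fun a ha => ?_
    obtain ⟨x, hx⟩ : a ∈ LinearMap.range Co := hS ▸ Submodule.subset_span ha
    exact ⟨Crv77.sec L x, hx ▸ hco x⟩
  -- finiteness
  haveI : Algebra.FiniteType k Γ(X, G) := by
    have h := HasRingHomProperty.appLE @LocallyOfFiniteType (X ↘ Spec (CommRingCat.of k)) inferInstance
      ⟨⊤, isAffineOpen_top _⟩ ⟨G, hG⟩ le_top
    show (constH (k := k) G).FiniteType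
    rw [constH_eq_appLE]
    exact RingHom.FiniteType.comp h (RingHom.FiniteType.of_surjective _
      (ConcreteCategory.bijective_of_isIso (Scheme.ΓSpecIso (CommRingCat.of k)).inv).2)
  let σ : Γ(X, G) →+* X.functionField := (X.presheaf.germ G _ hη).hom
  have hσ : Function.Injective σ := germ_injective_of_isIntegral X _ hη
  let A' : Subring X.functionField := A.toSubring.map σ
  haveI : Algebra.IsIntegral A Γ(X, G) := ⟨fun b => by
    have h1 : σ b ∈ (integralClosure (Subring.closure (A' : Set X.functionField)) X.functionField).toSubring := by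
      rw [← iInf_valuationSubring_superset, Subring.mem_iInf]
      intro V
      exact germ_mem_valuationSubring s G hGs hG hη hgen V.1
        (fun c => V.2 ⟨_, A.algebraMap_mem c, rfl⟩) (fun t a ha => V.2 ⟨a, hratA t a ha, rfl⟩) b
    rw [Subring.closure_eq] at h1
    obtain ⟨P, hPm, hP⟩ := (h1 : IsIntegral A' (σ b))
    let e : A.toSubring ≃+* A' := A.toSubring.equivMapOfInjective σ hσ
    refine ⟨P.map (e.symm : A' →+* A.toSubring), hPm.map _, hσ ?_⟩
    rw [map_zero, ← hP]
    show σ (Polynomial.eval₂ A.toSubring.subtype b _) = _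
    rw [Polynomial.hom_eval₂, Polynomial.eval₂_map]
    refine congrArg (fun q => Polynomial.eval₂ q (σ b) P) (RingHom.ext fun z => ?_)
    obtain ⟨z', rfl⟩ := e.surjective z
    simp only [RingHom.coe_comp, Function.comp_apply, RingHom.coe_coe, RingEquiv.symm_apply_apply]
    exact (Subring.coe_equivMapOfInjective_apply A.toSubring σ hσ z').symm⟩
  haveI : Algebra.FiniteType A Γ(X, G) := Algebra.FiniteType.of_restrictScalars_finiteType k A Γ(X, G)
  haveI : Module.Finite A Γ(X, G) := Algebra.IsIntegral.finite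
  haveI : Algebra.FiniteType k A := (Subalgebra.fg_iff_finiteType A).1 ⟨S, rfl⟩
  -- Nakayama
  let N : Submodule A Γ(X, G) := Submodule.span A {1}
  let M := Γ(X, G) ⧸ N
  by_contra hA
  have hann : Module.annihilator A M ≠ ⊤ := fun h => by
    refine hA (eq_top_iff.2 fun b _ => ?_)
    have h1 : (1 : A) ∈ Module.annihilator A M := h ▸ trivial
    have h2 := Module.mem_annihilator.1 h1 (Submodule.Quotient.mk b)
    rw [one_smul, Submodule.Quotient.mk_eq_zero, Submodule.mem_span_singleton] at h2
    obtain ⟨a, rfl⟩ := h2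
    exact (show a • (1 : Γ(X, G)) = (a : Γ(X, G)) from mul_one _) ▸ a.2
  obtain ⟨m, hm, hle⟩ := Ideal.exists_le_maximal _ hann
  have hsurj : Function.Bijective (algebraMap k (A ⧸ m)) := by
    letI := Ideal.Quotient.field m
    have : Module.Finite k (A ⧸ m) := finite_of_finite_type_of_isJacobsonRing k (A ⧸ m)
    exact IsAlgClosed.algebraMap_bijective_of_isIntegral
  let J : Ideal Γ(X, G) := m.map (algebraMap A Γ(X, G))
  have hconst : ∀ a : A, ∃ c : k, (a : Γ(X, G)) - constH G c ∈ J := fun a => by
    obtain ⟨c, hc⟩ := hsurj.2 (Ideal.Quotient.mk m a)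
    refine ⟨c, ?_⟩
    have h1 : a - algebraMap k A c ∈ m := Ideal.Quotient.eq.1 hc.symm
    exact Ideal.mem_map_of_mem (algebraMap A Γ(X, G)) h1
  have hfin : ((Ideal.Quotient.mk J).comp (constH (k := k) G)).Finite := by
    have h1 : (algebraMap k (A ⧸ m)).Finite := RingHom.Finite.of_surjective _ hsurj.2
    have h2 : (algebraMap A Γ(X, G)).Finite := RingHom.finite_algebraMap.2 inferInstance
    have h3 : (Ideal.quotientMap J (algebraMap A Γ(X, G)) Ideal.le_comap_map).Finite := by
      refine RingHom.Finite.of_comp_finite (f := Ideal.Quotient.mk m) ?_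
      rw [Ideal.quotientMap_comp_mk]
      exact (RingHom.Finite.of_surjective _ Ideal.Quotient.mk_surjective).comp h2
    have h4 := h3.comp h1
    exact h4
  have hM : (⊤ : Submodule A M) ≤ m • (⊤ : Submodule A M) := fun z _ => by
    obtain ⟨b, rfl⟩ := Submodule.Quotient.mk_surjective N z
    obtain ⟨c, hc⟩ := exists_sub_const_mem hdim h0 L hL hdeg s G hG hGs.le J hfin
      (fun t a ha => hconst ⟨a, hratA t a ha⟩) b
    have h5 : (Submodule.Quotient.mk b : M) = Submodule.Quotient.mk (b - constH G c) := by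
      rw [Submodule.Quotient.eq, sub_sub_cancel]
      exact Submodule.mem_span_singleton.2 ⟨algebraMap k A c, mul_one _⟩
    rw [h5]
    have h6 : b - constH G c ∈ m • (⊤ : Submodule A Γ(X, G)) := by
      rw [Ideal.smul_top_eq_map]
      exact hc
    have h7 := Submodule.mem_map_of_mem (f := N.mkQ) h6
    rw [Submodule.map_smul''] at h7
    exact Submodule.smul_mono le_rfl le_top h7
  obtain ⟨r, hr, hr0⟩ := Submodule.exists_sub_one_mem_and_smul_eq_zero_of_fg_of_le_smul m ⊤
    Module.Finite.fg_top hM
  have hrm : r ∈ m := hle (Module.mem_annihilator.2 fun z => hr0 z trivial)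
  exact hm.ne_top ((Ideal.eq_top_iff_one _).2 (sub_sub_cancel r 1 ▸ m.sub_mem hrm hr))

end Groth.Agent.Curves2.VeryAmple
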