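import Groth.Agent.Curves2.VeryAmple.Adjoin
import Groth.Agent.Curves2.Genus0.H0BC
import Groth.Agent.Crv77.BaseChange
import Groth.Agent.FlatMor68.FibDimBC
import Mathlib.FieldTheory.IsAlgClosed.AlgebraicClosure

/-!
Ratios of sections generate all functions: arbitrary ground field
-/

set_option autoImplicit false
set_option linter.style.haveILetI false
set_option backward.isDefEq.respectTransparency false
set_option backward.isDefEq.respectTransparency.types false

universe u

open CategoryTheory CategoryTheory.Limits AlgebraicGeometry TopologicalSpace Opposite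
open Groth.Agent.Var76.LineBundle Groth.Agent.Var76.ZeroScheme Groth.Agent.Amp73 Groth.Agent.Desc59

noncomputable section

namespace Groth.Agent.Curves2.VeryAmple

/-- Generation descends along an extension of the ground field. -/
theorem eq_top_of_closure_eq_top {R R' B B' : Type u} [CommRing R] [CommRing R'] [CommRing B] [CommRing B']
    [Nontrivial R'] [Algebra R R'] [Algebra R B] [Algebra R' B'] [Algebra B B'] [Algebra R B']
    [IsScalarTower R R' B'] [IsScalarTower R B B'] (hR : IsField R) (h : Algebra.IsPushout R R' B B')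
    (A : Subalgebra R B)
    (hA : Subring.closure (Set.range (algebraMap R' B') ∪ algebraMap B B' '' A) = ⊤) : A = ⊤ := by
  letI := hR.toField
  by_contra hne
  obtain ⟨lam, hl, hle⟩ := Submodule.exists_le_ker_of_lt_top (Subalgebra.toSubmodule A)
    (lt_top_iff_ne_top.2 fun h' => hne (Algebra.toSubmodule_eq_top.1 h'))
  let lam' : B' →ₗ[R'] R' := h.out.lift ((Algebra.linearMap R R').comp lam)
  let P : Submodule R' B' := Submodule.span R' (algebraMap B B' '' A)
  have hP : ∀ z ∈ P, lam' z = 0 := by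
    intro z hz
    induction hz using Submodule.span_induction with
    | mem z hz =>
      obtain ⟨a, ha, rfl⟩ := hz
      refine (h.out.lift_eq _ a).trans ?_
      show algebraMap R R' (lam a) = 0
      rw [LinearMap.mem_ker.1 (hle ha), map_zero]
    | zero => exact map_zero _
    | add x y _ _ hx hy => rw [map_add, hx, hy, add_zero]
    | smul c x _ hx => rw [map_smul, hx, smul_zero]
  have h1 : (1 : B') ∈ P := Submodule.subset_span ⟨1, A.one_mem, map_one _⟩
  have hmul : ∀ x y, x ∈ P → y ∈ P → x * y ∈ P := by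
    intro x y hx hy
    have := Submodule.mul_mem_mul hx hy
    rw [Submodule.span_mul_span] at this
    refine Submodule.span_mono ?_ this
    rintro _ ⟨_, ⟨a, ha, rfl⟩, _, ⟨b, hb, rfl⟩, rfl⟩
    exact ⟨a * b, A.mul_mem ha hb, map_mul _ _ _⟩
  have hall : ∀ z : B', z ∈ P := fun z => by
    have hz : z ∈ Subring.closure (Set.range (algebraMap R' B') ∪ algebraMap B B' '' A) := hA ▸ Subring.mem_top z
    induction hz using Subring.closure_induction with
    | mem z hz =>
      rcases hz with ⟨c, rfl⟩ | hz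
      · exact Algebra.algebraMap_eq_smul_one (A := B') c ▸ P.smul_mem c h1
      · exact Submodule.subset_span hz
    | zero => exact P.zero_mem
    | one => exact h1
    | add _ _ _ _ hx hy => exact P.add_mem hx hy
    | neg _ _ hx => exact P.neg_mem hx
    | mul _ _ _ _ hx hy => exact hmul _ _ hx hy
  obtain ⟨b, hb⟩ : ∃ b, lam b ≠ 0 := by
    by_contra h'
    push Not at h'
    exact hl (LinearMap.ext h')
  refine hb ((algebraMap R R').injective ?_)
  rw [map_zero]
  exact (h.out.lift_eq _ b).symm.trans (hP _ (hall _))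

variable {k : Type u} [Field k] {X : Scheme.{u}} [X.Over (Spec (CommRingCat.of k))]
  [IsProper (X ↘ Spec (CommRingCat.of k))]

theorem genLocus_eq_of_val {Y : Scheme.{u}} {M : Y.Modules} (φ : Coh.structureModule Y ⟶ M) (t : Γ(M, ⊤))
    (h : val M φ ⊤ = t) : CohB1.genLocus M φ = CohB1.genLocus M (Var76.Frames.ofSection M t) := by
  have e : ∀ W, val M φ W = val M (Var76.Frames.ofSection M t) W := fun W => by
    rw [← res_val M φ (le_top : W ≤ ⊤), h, Var76.Frames.val_ofSection]
  refine le_antisymm ?_ ?_ <;> rw [← isFrame_iff_le_genLocus]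
  · rw [← e]
    exact isFrame_genLocus φ
  · rw [e]
    exact isFrame_genLocus _

/-- Over any field the ratios of an invertible module of degree at least `2g+1` on a geometrically
integral curve generate. -/
theorem closure_eq_top_of_geometricallyIntegral [GeometricallyIntegral (X ↘ Spec (CommRingCat.of k))]
    (hdim : topologicalKrullDim X = 1)
    (h0 : Module.finrank k (Coh.HH X (Coh.structureModule X) 0) = 1)
    (L : X.Modules) (hL : PicF.IsInvertible L)
    (hdeg : 2 * (Curv2.genus k X : ℤ) + 1 ≤ Curv2.deg k X L 1) (s : Γ(L, ⊤))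
    (hne : (CohB1.genLocus L (Var76.Frames.ofSection L s) : Set X).Nonempty)
    (G : X.Opens) (hGs : G = CohB1.genLocus L (Var76.Frames.ofSection L s)) (hG : IsAffineOpen G) :
    Subring.closure (Set.range (constH (k := k) G) ∪
      {a | ∃ t : Γ(L, ⊤), a • res L (le_top : G ≤ ⊤) s = res L (le_top : G ≤ ⊤) t}) = ⊤ := by
  classical
  let K := AlgebraicClosure k
  let f := X ↘ Spec (CommRingCat.of k)
  let g := Spec.map (CommRingCat.ofHom (algebraMap k K))
  let X' := Curv2.bc k X K
  let p : X' ⟶ X := Curv2.bcFst k X K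
  letI : X'.Over (Spec (CommRingCat.of K)) := ⟨Curv2.bcSnd k X K⟩
  let f' := X' ↘ Spec (CommRingCat.of K)
  have H : IsPullback p f' f g := IsPullback.of_hasPullback _ _
  haveI : Flat g := Var76.FibBC.flat_of_field g
  haveI : IsProper f' := MorphismProperty.of_isPullback H inferInstance
  haveI : GeometricallyIntegral f' := MorphismProperty.of_isPullback H inferInstance

  haveI : Surjective g :=
    ⟨fun x => ⟨IsLocalRing.closedPoint K, Subsingleton.elim (α := Spec (CommRingCat.of k)) _ _⟩⟩
  haveI : Surjective p := MorphismProperty.of_isPullback H.flip inferInstance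
  haveI : IsAffineHom p := MorphismProperty.of_isPullback (P := @IsAffineHom) H.flip
    (inferInstanceAs (IsAffineHom g))
  haveI : Subsingleton (Spec (CommRingCat.of K)) := inferInstanceAs (Subsingleton (PrimeSpectrum K))
  haveI : IsIntegral X' := GeometricallyIntegral.isIntegral_of_subsingleton f'
  have hdim' : topologicalKrullDim X' = 1 := by
    rw [FlatMor68.FibDimBC.dim_eq_of_isPullback_field (algebraMap k K) _ p _ H, hdim]
  have hOc := Crv77.isCoh_of_isInvertible (X := X) EGA73.isInvertible_structureModule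
  have hLc := Crv77.isCoh_of_isInvertible hL
  have hh := fun i => Crv77.finrank_hh_structureModule_baseChange k K p H i
  have h0' : Module.finrank K (Coh.HH X' (Coh.structureModule X') 0) = 1 := (hh 0).trans h0
  let L' := (Scheme.Modules.pullback p).obj L
  have hL' : PicF.IsInvertible L' := isInvertible_pullback p hL
  have hg' : Curv2.genus K X' = Curv2.genus k X := hh 1
  have hd' : Curv2.deg K X' L' 1 = Curv2.deg k X L 1 := by
    unfold Curv2.deg Curv2.euler
    simp only [hh, L', fun i => Crv77.finrank_hh_baseChange k K p H L hLc i]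
  let s' : Γ(L', ⊤) := pullS p L ⊤ s
  have hG's : p ⁻¹ᵁ G = CohB1.genLocus L' (Var76.Frames.ofSection L' s') := by
    rw [hGs, ← genLocus_pullHom p hL]
    refine genLocus_eq_of_val _ _ ?_
    refine (val_pullHom p _ ⊤).trans (congrArg (pullS p L ⊤) ?_)
    exact (Var76.Frames.val_ofSection _ _ ⊤).trans (Amp73.res_self _ _)
  obtain ⟨x, hx⟩ := hne
  obtain ⟨x', rfl⟩ := p.surjective x
  have hx' : x' ∈ p ⁻¹ᵁ G := by rw [hGs]; exact hx
  haveI : Nonempty (p ⁻¹ᵁ G : X'.Opens) := ⟨⟨x', hx'⟩⟩
  have he : IsFrame L G (res L (le_top : G ≤ ⊤) s) := by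
    have h := (isFrame_iff_le_genLocus (Var76.Frames.ofSection L s) G).2 hGs.le
    rwa [Var76.Frames.val_ofSection] at h
  have he' : IsFrame L' (p ⁻¹ᵁ G) (pullS p L G (res L (le_top : G ≤ ⊤) s)) := isFrame_pullS p hL he
  have hes : res L' (le_top : p ⁻¹ᵁ G ≤ ⊤) s' = pullS p L G (res L (le_top : G ≤ ⊤) s) :=
    res_pullS p L (le_top : G ≤ ⊤) s
  have hs' : s' ≠ 0 := fun h => by
    have h2 : IsFrame L' (p ⁻¹ᵁ G) (0 : Γ(L', p ⁻¹ᵁ G)) := by
      have h3 := hes.symm.trans ((congrArg (res L' le_top) h).trans (map_zero _))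
      rwa [h3] at he'
    have h4 : (1 : Γ(X', p ⁻¹ᵁ G)) = 0 := (h2 _ le_rfl).1 (by
      dsimp only
      rw [Amp73.res_self, smul_zero, smul_zero])
    exact one_ne_zero h4
  have key := closure_eq_top hdim' h0' L' hL' (by rw [hg', hd']; exact hdeg) s' hs' (p ⁻¹ᵁ G) hG's (hG.preimage p)
  -- descent
  let R := Γ(Spec (CommRingCat.of k), ⊤)
  let R' := Γ(Spec (CommRingCat.of K), ⊤)
  let V := p ⁻¹ᵁ G
  have hpo := (isIso_pushoutSection_iff H (US := ⊤) (UT := ⊤) (UX := G) (UY := V) le_top le_top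
      (by simp [V] : V = p ⁻¹ᵁ G ⊓ f' ⁻¹ᵁ ⊤)).1
    (isIso_pushoutSection_of_isAffineOpen H le_top le_top (by simp [V]) (isAffineOpen_top _) (isAffineOpen_top _) hG)
  letI := g.appTop.hom.toAlgebra
  letI := (p.appLE G V le_rfl).hom.toAlgebra
  letI := (f.appLE ⊤ G le_top).hom.toAlgebra
  letI := (f'.appLE ⊤ V le_top).hom.toAlgebra
  letI : Algebra R Γ(X', V) := ((p.appLE G V le_rfl).hom.comp (f.appLE ⊤ G le_top).hom).toAlgebra
  have eg : g.appLE ⊤ ⊤ le_top = g.appTop := (Scheme.Hom.app_eq_appLE g (U := ⊤)).symm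
  haveI : IsScalarTower R Γ(X, G) Γ(X', V) := IsScalarTower.of_algebraMap_eq' rfl
  haveI : IsScalarTower R R' Γ(X', V) := IsScalarTower.of_algebraMap_eq' (by
    show (p.appLE G V le_rfl).hom.comp (f.appLE ⊤ G le_top).hom = (f'.appLE ⊤ V le_top).hom.comp g.appTop.hom
    have h3 : f.appLE ⊤ G le_top ≫ p.appLE G V le_rfl = g.appLE ⊤ ⊤ le_top ≫ f'.appLE ⊤ V le_top := by
      rw [Scheme.Hom.appLE_comp_appLE f' g ⊤ ⊤ V le_top le_top, Scheme.Hom.appLE_comp_appLE p f ⊤ G V le_top le_rfl]
      congr 1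
      exact H.w
    rw [eg] at h3
    exact congrArg CommRingCat.Hom.hom h3)
  have hp : Algebra.IsPushout R R' Γ(X, G) Γ(X', V) := by
    refine CommRingCat.isPushout_iff_isPushout.mp ?_
    rw [eg] at hpo
    exact hpo.flip
  have hRf : IsField R :=
    MulEquiv.isField (Field.toIsField k) (Scheme.ΓSpecIso (CommRingCat.of k)).commRingCatIsoToRingEquiv.toMulEquiv
  haveI : Nontrivial R' := (Scheme.ΓSpecIso (CommRingCat.of K)).commRingCatIsoToRingEquiv.toEquiv.nontrivial
  let S := Subring.closure (Set.range (constH (k := k) G) ∪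
      {a | ∃ t : Γ(L, ⊤), a • res L (le_top : G ≤ ⊤) s = res L (le_top : G ≤ ⊤) t})
  have hSr : ∀ r : R, algebraMap R Γ(X, G) r ∈ S := fun r => by
    obtain ⟨c, rfl⟩ := (ConcreteCategory.bijective_of_isIso (Scheme.ΓSpecIso (CommRingCat.of k)).inv).2 r
    refine Subring.subset_closure (Or.inl ⟨c, ?_⟩)
    rw [constH_eq_appLE]
    rfl
  let A : Subalgebra R Γ(X, G) := { S.toSubsemiring with algebraMap_mem' := hSr }
  suffices hA : A = ⊤ by
    refine eq_top_iff.2 fun b _ => ?_
    have hb : b ∈ A := hA ▸ Algebra.mem_top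
    exact hb
  refine eq_top_of_closure_eq_top hRf hp A (eq_top_iff.2 (key.ge.trans (Subring.closure_le.2 ?_)))
  rintro a' (⟨c, rfl⟩ | ⟨t', ht'⟩)
  · exact Subring.subset_closure (Or.inl ⟨_, rfl⟩)
  · have := hLc.1
    haveI : CompactSpace X := QuasiCompact.compactSpace_of_compactSpace f
    haveI : QuasiSeparatedSpace X := quasiSeparatedSpace_of_quasiSeparated f
    letI := FlatH0.baseModule f L (⊤ : X.Opens)
    obtain ⟨z, hz⟩ := (Genus0.μ_top_bijective f g f' p L H).2 (t' : Γ(L', p ⁻¹ᵁ ⊤))
    suffices hz' : ∀ (z : TensorProduct R R' Γ(L, ⊤)), ∀ a' : Γ(X', V),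
        a' • pullS p L G (res L (le_top : G ≤ ⊤) s) = res L' (le_top : V ≤ ⊤) (FlatH0.μ f g f' p L H ⊤ z) →
        a' ∈ Subring.closure (Set.range (algebraMap R' Γ(X', V)) ∪ algebraMap Γ(X, G) Γ(X', V) '' A) from
      hz' z a' (by rw [hz, ← hes]; exact ht')
    intro z
    induction z with
    | zero =>
      intro a' ha
      rw [map_zero] at ha
      have h5 : a' = 0 := (he' _ le_rfl).1 (by
        dsimp only
        rw [Amp73.res_self, zero_smul, ha]
        exact map_zero _)
      rw [h5]
      exact Subring.zero_mem _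
    | tmul c t =>
      intro a' ha
      obtain ⟨a, hat⟩ := (he G le_rfl).2 (res L le_top t)
      dsimp only at hat
      rw [Amp73.res_self] at hat
      have h5 : a' = algebraMap R' Γ(X', V) c * algebraMap Γ(X, G) Γ(X', V) a := (he' _ le_rfl).1 (by
        dsimp only
        rw [Amp73.res_self, ha]
        show res L' (le_top : V ≤ ⊤) (f'.appLE ⊤ (p ⁻¹ᵁ ⊤) le_top c • pullS p L ⊤ t) =
          (f'.appLE ⊤ V le_top c * p.appLE G V le_rfl a) • _
        rw [res_smul, mul_smul, ← Scheme.Hom.app_eq_appLE, ← pullS_smul, hat]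
        congr 1
        · exact ConcreteCategory.congr_hom (Scheme.Hom.appLE_map f' (le_top : p ⁻¹ᵁ ⊤ ≤ f' ⁻¹ᵁ ⊤)
            (homOfLE (le_top : V ≤ p ⁻¹ᵁ ⊤)).op) c
        · exact res_pullS p L (le_top : G ≤ ⊤) t)
      rw [h5]
      exact Subring.mul_mem _ (Subring.subset_closure (Or.inl ⟨c, rfl⟩))
        (Subring.subset_closure (Or.inr ⟨a, Subring.subset_closure (Or.inr ⟨t, hat⟩), rfl⟩))
    | add z₁ z₂ h₁ h₂ =>
      intro a' ha
      obtain ⟨a₁, ha₁⟩ := (he' _ le_rfl).2 (res L' le_top (FlatH0.μ f g f' p L H ⊤ z₁))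
      obtain ⟨a₂, ha₂⟩ := (he' _ le_rfl).2 (res L' le_top (FlatH0.μ f g f' p L H ⊤ z₂))
      dsimp only at ha₁ ha₂
      rw [Amp73.res_self] at ha₁ ha₂
      rw [map_add] at ha
      have h5 : a' = a₁ + a₂ := (he' _ le_rfl).1 (by
        dsimp only
        rw [Amp73.res_self, ha, add_smul, ha₁, ha₂]
        exact map_add _ _ _)
      rw [h5]
      exact Subring.add_mem _ (h₁ a₁ ha₁) (h₂ a₂ ha₂)

end Groth.Agent.Curves2.VeryAmple
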