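import Groth.Agent.Curves2.VeryAmple.Descend
import Groth.Agent.EGA73.ImmersionPn
import Groth.Agent.KRR40.PnTransfer
import Groth.Agent.GenAff57.Ample
import Groth.Agent.S1530
import Groth.Prelude.Def_Twist2

/-!
Very ampleness of invertible modules of degree at least `2g+1`
-/

set_option autoImplicit false
set_option linter.style.haveILetI false
set_option backward.isDefEq.respectTransparency false
set_option backward.isDefEq.respectTransparency.types false

universe u

open CategoryTheory CategoryTheory.Limits AlgebraicGeometry TopologicalSpace Opposite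
open Groth.Agent.Var76.LineBundle Groth.Agent.Var76.ZeroScheme Groth.Agent.Amp73

noncomputable section

namespace Groth.Agent.Curves2.VeryAmple

/-- From the relative projective space over a field to projective space. -/
theorem exists_closedImmersion_projSpace (A : Type u) [CommRing A] {X : Scheme.{u}}
    (π : X ⟶ Spec (CommRingCat.of A)) [IsProper π] (L : X.Modules) (h : RelAmple.IsRelVeryAmplePn π L) :
    ∃ (n : ℕ) (i : X ⟶ CohB1.ProjSpace n A), IsClosedImmersion i ∧ i ≫ CohB1.ProjSpace.toSpec n A = π ∧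
      Nonempty ((Scheme.Modules.pullback i).obj (Twist.twistProjSpace n A 1) ≅ L) := by
  obtain ⟨n, j, hj, hjπ, ⟨e⟩⟩ := h
  let Z := ULift.{u} ℤ
  algebraize [((Int.castRingHom A).comp (ULift.ringEquiv (R := ℤ)).toRingHom)]
  have hpb : IsPullback (Csa25.linMap (n := n) (algebraMap Z A) 1 isUnit_one) (CohB1.ProjSpace.toSpec n A)
      (CohB1.ProjSpace.toSpec n Z) (specULiftZIsTerminal.from (Spec (CommRingCat.of A))) := by
    rw [specULiftZIsTerminal.hom_ext (specULiftZIsTerminal.from (Spec (CommRingCat.of A)))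
      (Spec.map (CommRingCat.ofHom (algebraMap Z A)))]
    exact Csa25.isPullback_linMap_one
  let e₀ : CohB1.ProjSpaceOver n (Spec (CommRingCat.of A)) ≅ CohB1.ProjSpace n A :=
    (IsPullback.of_hasPullback _ _).isoIsPullback _ _ hpb
  have he₂ : e₀.hom ≫ CohB1.ProjSpace.toSpec n A = pullback.snd _ _ :=
    (IsPullback.of_hasPullback _ _).isoIsPullback_hom_snd _ _ hpb
  have he₁ : e₀.hom ≫ Csa25.linMap (n := n) (algebraMap Z A) 1 isUnit_one = pullback.fst _ _ :=
    (IsPullback.of_hasPullback _ _).isoIsPullback_hom_fst _ _ hpb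
  let i := j ≫ e₀.hom
  have hi : i ≫ CohB1.ProjSpace.toSpec n A = π := by
    rw [← hjπ, ← he₂]
    exact Category.assoc _ _ _
  haveI : IsSeparated (CohB1.ProjSpace.toSpec n A) := by
    have := Proj.isSeparated (CohB1.polyGrading n A)
    exact @MorphismProperty.comp_mem _ _ @IsSeparated _ _ _ _ (Proj.toSpecZero (CohB1.polyGrading n A)) _ this
      (inferInstanceAs (IsSeparated (Spec.map (CommRingCat.ofHom (algebraMap A (CohB1.polyGrading n A 0))))))
  haveI : IsProper (i ≫ CohB1.ProjSpace.toSpec n A) := by rw [hi]; infer_instance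
  haveI : IsProper i := IsProper.of_comp i (CohB1.ProjSpace.toSpec n A)
  haveI := hj
  obtain ⟨e'⟩ := KRR40.nonempty_pullback_linMap_one n A (1 : ℤ)
  refine ⟨n, i, IsClosedImmersion.of_isPreimmersion i i.isClosedMap.isClosed_range, hi, ⟨?_⟩⟩
  refine (Scheme.Modules.pullback i).mapIso e'.symm ≪≫ (Scheme.Modules.pullbackComp i _).app _ ≪≫
    (Scheme.Modules.pullbackCongr (?_ : i ≫ Csa25.linMap (n := n) (algebraMap Z A) 1 isUnit_one = j ≫ pullback.fst _ _)).app _ ≪≫
    ((Scheme.Modules.pullbackComp j _).app _).symm ≪≫ e.symm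
  rw [← he₁]
  exact Category.assoc _ _ _

variable {k : Type u} [Field k] {X : Scheme.{u}} [X.Over (Spec (CommRingCat.of k))]
  [IsProper (X ↘ Spec (CommRingCat.of k))]

/-- An invertible module of degree at least `2g+1` on a geometrically integral curve is very ample. -/
theorem isRelVeryAmplePn_of_deg [GeometricallyIntegral (X ↘ Spec (CommRingCat.of k))]
    (hdim : topologicalKrullDim X = 1)
    (h0 : Module.finrank k (Coh.HH X (Coh.structureModule X) 0) = 1)
    (L : X.Modules) (hL : PicF.IsInvertible L)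
    (hdeg : 2 * (Curv2.genus k X : ℤ) + 1 ≤ Curv2.deg k X L 1) :
    RelAmple.IsRelVeryAmplePn (X ↘ Spec (CommRingCat.of k)) L := by
  classical
  haveI : Subsingleton (Spec (CommRingCat.of k)) := inferInstanceAs (Subsingleton (PrimeSpectrum k))
  haveI : IsIntegral X := GeometricallyIntegral.isIntegral_of_subsingleton (X ↘ Spec (CommRingCat.of k))
  have := Crv77.isNoetherian_of_proper k X
  have hX := Crv77.curveCoh_of_proper k X hdim.le
  have hamp : CohB1.IsAmple L := (S1530.result k X hdim L hL).2 (by omega)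
  have hgen : ∀ x : X, ∃ t : Γ(L, ⊤), x ∈ CohB1.genLocus L (Var76.Frames.ofSection L t) := fun x => by
    obtain ⟨y, hy, hxy⟩ := Crv77.exists_isClosed_specializes x
    obtain ⟨t, ht⟩ := Crv77.exists_gen_of_isGloballyGenerated hL
      (hX.isGloballyGenerated_of_deg hdim h0 hL (by omega)) hy
    exact ⟨t, hxy.mem_open (CohB1.genLocus L _).2 ht⟩
  choose t ht using hgen
  obtain ⟨T, hT⟩ := isCompact_univ.elim_finite_subcover
    (fun x : X => (CohB1.genLocus L (Var76.Frames.ofSection L (t x)) : Set X))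
    (fun x => (CohB1.genLocus L _).2) fun x _ => Set.mem_iUnion.2 ⟨x, ht x⟩
  have := hX.finite _ (Crv77.isCoh_of_isInvertible hL) 0
  let b := Module.finBasis k (Coh.HH X L 0)
  let u : ULift.{u} (Fin (Module.finrank k (Coh.HH X L 0))) ⊕ T → Γ(L, ⊤) :=
    Sum.elim (fun j => Crv77.sec L (b j.down)) (fun x => t x.1)
  refine EGA73.ImmersionPn.isRelVeryAmplePn_of_sections _ L hL u fun z => ?_
  obtain ⟨x, hxT, hzx⟩ := Set.mem_iUnion₂.1 (hT (Set.mem_univ z))
  let s := t x
  let G := CohB1.genLocus L (Var76.Frames.ofSection L s)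
  have hG : IsAffineOpen G :=
    GenAff57.isAffineOpen_genLocus (X ↘ Spec (CommRingCat.of k)) hamp _
  refine ⟨Sum.inr ⟨x, hxT⟩, ⊤, isAffineOpen_top _, le_top, hzx, hG, ?_⟩
  have he : IsFrame L G (res L (le_top : G ≤ ⊤) s) := by
    have h := (isFrame_iff_le_genLocus (Var76.Frames.ofSection L s) G).2 le_rfl
    rwa [Var76.Frames.val_ofSection] at h
  rw [eq_top_iff, ← closure_eq_top_of_geometricallyIntegral hdim h0 L hL hdeg s ⟨z, hzx⟩ G rfl hG]
  refine Subring.closure_le.2 ?_
  rintro a (⟨c, rfl⟩ | ⟨t', ht'⟩)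
  · rw [constH_eq_appLE]
    exact Subring.subset_closure (Or.inl ⟨_, rfl⟩)
  · have coord : ∀ j, ∃ a : Γ(X, G), a • res L (le_top : G ≤ ⊤) s =
        res L (le_top : G ≤ ⊤) (u (Sum.inl j)) := fun j => by
      obtain ⟨a, ha⟩ := (he G le_rfl).2 (res L (le_top : G ≤ ⊤) (u (Sum.inl j)))
      exact ⟨a, by simpa only [Amp73.res_self] using ha⟩
    choose co hco using coord
    let c := b.repr ((Crv77.sec L).symm t')
    have hsum : a = ∑ j, constH G (c j) * co ⟨j⟩ := (he G le_rfl).1 (by
      dsimp only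
      rw [Amp73.res_self, ht', Finset.sum_smul]
      conv_lhs => rw [← (Crv77.sec L).apply_symm_apply t', ← b.sum_repr ((Crv77.sec L).symm t'), map_sum]
      refine (map_sum (L.presheaf.map (homOfLE (le_top : G ≤ ⊤)).op).hom _ _).trans (Finset.sum_congr rfl fun j _ => ?_)
      rw [mul_smul, hco]
      exact res_sec_smul G _ _)
    rw [hsum]
    refine Subring.sum_mem _ fun j _ => Subring.mul_mem _ ?_ (Subring.subset_closure (Or.inr ⟨Sum.inl ⟨j⟩, hco _⟩))
    rw [constH_eq_appLE]
    exact Subring.subset_closure (Or.inl ⟨_, rfl⟩)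

end Groth.Agent.Curves2.VeryAmple
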