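import Groth.Agent.Curves2.VeryAmple.Pencil
import Groth.Agent.Curves2.VeryAmple.ProjSections
import Groth.Agent.Curves2.PointTwists
import Groth.Agent.Crv77.InvMod
import Groth.Agent.GenAff57.Ample
import Groth.Agent.S1530

/-!
Embeddings of curves with vanishing `H¹(O)` by complete linear systems
-/

set_option autoImplicit false
set_option linter.style.haveILetI false
set_option backward.isDefEq.respectTransparency false
set_option backward.isDefEq.respectTransparency.types false

universe u

open CategoryTheory CategoryTheory.Limits AlgebraicGeometry TopologicalSpace Opposite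
open Groth.Agent.Var76.LineBundle Groth.Agent.Var76.ZeroScheme Groth.Agent.Amp73

noncomputable section

namespace Groth.Agent.Curves2.VeryAmple

variable {k : Type u} [Field k] {X : Scheme.{u}} [X.Over (Spec (CommRingCat.of k))] [IsIntegral X]
  [IsProper (X ↘ Spec (CommRingCat.of k))]

/-- In genus zero a complete linear system of positive degree is an embedding. -/
theorem exists_immersion_genus_zero (hdim : topologicalKrullDim X = 1)
    (h0 : Module.finrank k (Coh.HH X (Coh.structureModule X) 0) = 1) (hg : Curv2.genus k X = 0)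
    (L : X.Modules) (hL : PicF.IsInvertible L) (d : ℕ) (hd : 0 < d) (hdeg : Curv2.deg k X L 1 = d) :
    ∃ i : X ⟶ CohB1.ProjSpace d k, IsClosedImmersion i ∧
      i ≫ CohB1.ProjSpace.toSpec d k = (X ↘ Spec (CommRingCat.of k)) ∧
      Nonempty ((Scheme.Modules.pullback i).obj (Twist.twistProjSpace d k 1) ≅ L) := by
  classical
  have := Crv77.isNoetherian_of_proper k X
  have hX := Crv77.curveCoh_of_proper k X hdim.le
  have := hX.finite _ (Crv77.isCoh_structureModule (X := X)) 1
  have h1 : Subsingleton (Coh.HH X (Coh.structureModule X) 1) := (Module.finrank_zero_iff (R := k)).1 hg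
  have hLc := Crv77.isCoh_of_isInvertible hL
  have := hX.finite _ hLc 0
  have hN : Module.finrank k (Coh.HH X L 0) = d + 1 := by
    have := hX.h1_eq_zero_of_deg_gt hdim h0 hL (by omega)
    have r := hX.riemann h0 hLc
    simp only [Crv77.h, Module.finrank_zero_of_subsingleton (M := Coh.HH X L 1)] at r
    omega
  have hamp : CohB1.IsAmple L := (S1530.result k X hdim L hL).2 (by omega)
  haveI : Nontrivial (Coh.HH X L 0) := Module.nontrivial_of_finrank_pos (R := k) (by omega)
  obtain ⟨x₀, hx₀⟩ := exists_ne (0 : Coh.HH X L 0)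
  let s := Crv77.sec L x₀
  have hs : s ≠ 0 := fun h => hx₀ ((Crv77.sec L).injective (h.trans (map_zero _).symm))
  obtain ⟨t, hst⟩ := exists_partner hdim h0 h1 hL (by omega) s hs
  let G := CohB1.genLocus L (Var76.Frames.ofSection L s)
  have he : IsFrame L G (res L (le_top : G ≤ ⊤) s) := by
    have h := (isFrame_iff_le_genLocus (Var76.Frames.ofSection L s) G).2 le_rfl
    rwa [Var76.Frames.val_ofSection] at h
  obtain ⟨z, hzG⟩ : ∃ z : X, z ∉ G := by
    by_contra h
    push Not at h
    have he2 : IsFrame L ⊤ s := by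
      have h2 := he.res (show (⊤ : X.Opens) ≤ G from fun z _ => h z)
      rwa [res_res, Amp73.res_self] at h2
    have := Crv77.isIso_unitHom_of_isFrame he2
    have hd0 := Curves2.deg_congr k (asIso (EGA73.unitHom L s))
    rw [hdeg, Curves2.deg_structureModule] at hd0
    omega
  have hzU := (hst z).resolve_left hzG
  have ht : t ≠ 0 := by
    intro h
    let U := CohB1.genLocus L (Var76.Frames.ofSection L t)
    have h2 := (isFrame_iff_le_genLocus (Var76.Frames.ofSection L t) U).2 le_rfl
    rw [Var76.Frames.val_ofSection, h] at h2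
    haveI : Nonempty (U : X.Opens) := ⟨⟨z, hzU⟩⟩
    exact one_ne_zero (α := Γ(X, U)) ((h2 _ le_rfl).1 (by
      dsimp only
      rw [Amp73.res_self, zero_smul, one_smul]
      exact map_zero _))
  let y₀ := (Crv77.sec L).symm t
  have hli : LinearIndependent k ![x₀, y₀] := by
    refine LinearIndependent.pair_iff.2 fun a b hab => ?_
    have hb : b = 0 := by
      by_contra hb
      refine hzG ?_
      let U := CohB1.genLocus L (Var76.Frames.ofSection L t)
      have he' : IsFrame L U (res L (le_top : U ≤ ⊤) t) := by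
        have h := (isFrame_iff_le_genLocus (Var76.Frames.ofSection L t) U).2 le_rfl
        rwa [Var76.Frames.val_ofSection] at h
      have h3 : y₀ = (-b⁻¹ * a) • x₀ := by
        have h4 : b • y₀ = -(a • x₀) := eq_neg_of_add_eq_zero_right hab
        rw [mul_smul, neg_smul, ← smul_neg, ← h4, smul_smul, inv_mul_cancel₀ hb, one_smul]
      have h5 := congrArg (fun v => res L (le_top : U ≤ ⊤) (Crv77.sec L v)) h3
      rw [AddEquiv.apply_symm_apply, res_sec_smul] at h5
      obtain ⟨f, hf⟩ := (he' U le_rfl).2 (res L (le_top : U ≤ ⊤) s)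
      dsimp only at hf
      rw [Amp73.res_self] at hf
      have hu : IsUnit f := IsUnit.of_mul_eq_one_right (constH U (-b⁻¹ * a)) ((he' U le_rfl).1 (by
        dsimp only
        rw [Amp73.res_self, one_smul, mul_smul, hf]
        exact h5.symm))
      refine mem_genLocus_iff.2 ⟨U, hzU, ?_⟩
      rw [Var76.Frames.val_ofSection, ← hf]
      exact (isFrame_smul_iff he' f).2 hu
    refine ⟨?_, hb⟩
    rw [hb, zero_smul, add_zero] at hab
    exact (smul_eq_zero.1 hab).resolve_right hx₀
  have hne : x₀ ≠ y₀ := fun h => by simpa using hli.injective.ne (show (0 : Fin 2) ≠ 1 by decide) (by simpa using h)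
  have hset : LinearIndepOn k id ({x₀, y₀} : Set (Coh.HH X L 0)) := by
    have := hli.linearIndepOn_id
    convert this using 1
    ext v
    simp [eq_comm, or_comm]
  let B := Module.Basis.extend hset
  haveI : Fintype (hset.extend (Set.subset_univ _)) := FiniteDimensional.fintypeBasisIndex B
  let eI : (hset.extend (Set.subset_univ _) : Set (Coh.HH X L 0)) ≃ Fin (d + 1) :=
    Fintype.equivFinOfCardEq ((Module.finrank_eq_card_basis B).symm.trans hN)
  let b := B.reindex eI
  let u : Fin (d + 1) → ProjUP.Γm L := fun i => Crv77.sec L (b i)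
  have hmem : ∀ v ∈ ({x₀, y₀} : Set (Coh.HH X L 0)), ∃ i, b i = v := fun v hv => by
    refine ⟨eI ⟨v, hset.subset_extend _ hv⟩, ?_⟩
    simp [b, B, Module.Basis.extend_apply_self]
  have gen : ∀ (G : X.Opens) (i : Fin (d + 1)) (v : Γ(L, ⊤)), u i = v →
      IsFrame L G (res L (le_top : G ≤ ⊤) v) →
      Subring.closure (Set.range (constH (k := k) G) ∪
        {a | ∃ t : Γ(L, ⊤), a • res L (le_top : G ≤ ⊤) v = res L (le_top : G ≤ ⊤) t}) = ⊤ →
      Subring.closure (Set.range (fun c : k => fres (le_top : G ≤ ⊤) (ProjUP.toGlobal (X ↘ Spec (CommRingCat.of k)) c)) ∪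
        {a | ∃ j', a • res L (le_top : G ≤ ⊤) (u i) = res L (le_top : G ≤ ⊤) (u j')}) = ⊤ := by
    intro G i v hiv he hcl
    rw [eq_top_iff, ← hcl, hiv]
    refine Subring.closure_le.2 ?_
    rintro a (⟨c, rfl⟩ | ⟨t', ht'⟩)
    · exact Subring.subset_closure (Or.inl ⟨c, rfl⟩)
    · have coord : ∀ j, ∃ a : Γ(X, G), a • res L (le_top : G ≤ ⊤) v = res L (le_top : G ≤ ⊤) (u j) := fun j => by
        obtain ⟨a, ha⟩ := (he G le_rfl).2 (res L (le_top : G ≤ ⊤) (u j))
        exact ⟨a, by simpa only [Amp73.res_self] using ha⟩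
      choose co hco using coord
      have hsum : a = ∑ j, constH G (b.repr ((Crv77.sec L).symm t') j) * co j := (he G le_rfl).1 (by
        dsimp only
        rw [Amp73.res_self, ht', Finset.sum_smul]
        conv_lhs => rw [← (Crv77.sec L).apply_symm_apply t', ← b.sum_repr ((Crv77.sec L).symm t'), map_sum]
        refine (map_sum (L.presheaf.map (homOfLE (le_top : G ≤ ⊤)).op).hom _ _).trans (Finset.sum_congr rfl fun j _ => ?_)
        rw [mul_smul, hco]
        exact res_sec_smul G _ _)
      rw [hsum]
      exact Subring.sum_mem _ fun j _ => Subring.mul_mem _ (Subring.subset_closure (Or.inl ⟨_, rfl⟩))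
        (Subring.subset_closure (Or.inr ⟨j, hco j⟩))
  have haff := fun v : Γ(L, ⊤) =>
    GenAff57.isAffineOpen_genLocus (X ↘ Spec (CommRingCat.of k)) hamp (Var76.Frames.ofSection L v)
  have hfr : ∀ v : Γ(L, ⊤), IsFrame L (CohB1.genLocus L (Var76.Frames.ofSection L v))
      (res L (le_top : CohB1.genLocus L (Var76.Frames.ofSection L v) ≤ ⊤) v) := fun v => by
    have h := (isFrame_iff_le_genLocus (Var76.Frames.ofSection L v) _).2 le_rfl
    rwa [Var76.Frames.val_ofSection] at h
  obtain ⟨i, hi, hip, hiso⟩ := exists_immersion_of_sections (X ↘ Spec (CommRingCat.of k)) L hL d u fun x => by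
    obtain ⟨i₁, hi₁⟩ := hmem x₀ (Or.inl rfl)
    obtain ⟨i₂, hi₂⟩ := hmem y₀ (Or.inr rfl)
    have hu₁ : u i₁ = s := congrArg (Crv77.sec L) hi₁
    have hu₂ : u i₂ = t := (congrArg (Crv77.sec L) hi₂).trans ((Crv77.sec L).apply_symm_apply t)
    rcases hst x with hx | hx
    · exact ⟨i₁, G, by rw [hu₁], hx, haff s, gen G i₁ s hu₁ (hfr s)
        (closure_eq_top_of_pencil h0 h1 hL s t hs ht hst (haff t) G rfl)⟩
    · exact ⟨i₂, _, by rw [hu₂], hx, haff t, gen _ i₂ t hu₂ (hfr t)
        (closure_eq_top_of_pencil h0 h1 hL t s ht hs (fun y => (hst y).symm) (haff s) _ rfl)⟩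
  haveI : IsSeparated (CohB1.ProjSpace.toSpec d k) := by
    have := Proj.isSeparated (CohB1.polyGrading d k)
    exact @MorphismProperty.comp_mem _ _ @IsSeparated _ _ _ _ (Proj.toSpecZero (CohB1.polyGrading d k)) _ this
      (inferInstanceAs (IsSeparated (Spec.map (CommRingCat.ofHom (algebraMap k (CohB1.polyGrading d k 0))))))
  haveI : IsProper (i ≫ CohB1.ProjSpace.toSpec d k) := by rw [hip]; infer_instance
  haveI : IsProper i := IsProper.of_comp i (CohB1.ProjSpace.toSpec d k)
  haveI := hi
  exact ⟨i, IsClosedImmersion.of_isPreimmersion i i.isClosedMap.isClosed_range, hip, hiso⟩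

end Groth.Agent.Curves2.VeryAmple
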