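import Groth.Agent.Curves2.VeryAmple.Span
import Groth.Agent.Curves2.PointTwists
import Groth.Agent.Curves2.CurvePlaces
import Groth.Agent.Crv77.CMCurve

/-!
Ratios of sections on a curve with vanishing `H¹(O)`
-/

set_option autoImplicit false
set_option linter.style.haveILetI false
set_option backward.isDefEq.respectTransparency false
set_option backward.isDefEq.respectTransparency.types false

universe u

open CategoryTheory CategoryTheory.Limits AlgebraicGeometry TopologicalSpace Opposite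
open Groth.Agent.Var76.LineBundle Groth.Agent.Var76.ZeroScheme Groth.Agent.Amp73

noncomputable section

namespace Groth.Agent.Curves2.VeryAmple

variable {k : Type u} [Field k] {X : Scheme.{u}} [X.Over (Spec (CommRingCat.of k))] [IsIntegral X]

/-- Local data vanishing where `s` generates lift to global sections. -/
theorem exists_lift_of_glue (k : Type u) [CommRing k] [X.Over (Spec (CommRingCat.of k))]
    (h1 : Subsingleton (Coh.HH X (Coh.structureModule X) 1))
    {L : X.Modules} (hL : PicF.IsInvertible L) (s : Γ(L, ⊤)) (hs : s ≠ 0) {ι : Type u} (V : ι → X.Opens)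
    (hcov : ∀ x, ∃ i, x ∈ V i) (m : ∀ i, Γ(L, V i))
    (hm : ∀ i j, ∃ c : Γ(X, V i ⊓ V j),
      res L (inf_le_left : V i ⊓ V j ≤ V i) (m i) - res L (inf_le_right : V i ⊓ V j ≤ V j) (m j) =
        c • res L (le_top : V i ⊓ V j ≤ ⊤) s) :
    ∃ v : Γ(L, ⊤), ∀ i, ∃ a : Γ(X, V i),
      res L (le_top : V i ≤ ⊤) v - m i = a • res L (le_top : V i ≤ ⊤) s := by
  let φ := Var76.Frames.ofSection L s
  have hφ : ∀ (W : X.Opens) (c : Γ(X, W)),
      φ.app W (c : Γ(Coh.structureModule X, W)) = c • res L (le_top : W ≤ ⊤) s := fun W c => by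
    rw [app_eq_smul_val, Var76.Frames.val_ofSection]
  have hmono : Mono φ := (Crv77.section_of_invertible hL φ (by
    rw [show φ.app ⊤ (1 : Γ(X, ⊤)) = _ from hφ ⊤ 1, one_smul, Amp73.res_self]
    exact hs)).1
  let T := ShortComplex.mk φ (cokernel.π φ) (cokernel.condition _)
  have hT : T.ShortExact :=
    { exact := ShortComplex.exact_of_g_is_cokernel _ (cokernelIsCokernel _)
      mono_f := hmono
      epi_g := inferInstanceAs (Epi (cokernel.π _)) }
  let πQ := cokernel.π φ
  obtain ⟨q, hq⟩ := QC70.exists_glue (cokernel φ) V (fun i => le_top (a := V i))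
    (fun x _ => Opens.mem_iSup.2 (hcov x)) (fun i => πQ.app (V i) (m i)) (fun i j => by
      obtain ⟨c, hc⟩ := hm i j
      rw [← QC70.app_res, ← QC70.app_res, ← sub_eq_zero, ← map_sub]
      refine (congrArg (πQ.app (V i ⊓ V j)) (hc.trans (hφ _ c).symm)).trans ?_
      exact QC70.app_f_g T _ c)
  obtain ⟨w, hw⟩ := (Crv77.exact_g_δ k hT 0 ((Crv77.sec (cokernel φ)).symm q)).1 (Subsingleton.elim (h := h1) _ _)
  refine ⟨Crv77.sec L w, fun i => ?_⟩
  have hv : πQ.app ⊤ (Crv77.sec L w) = q :=
    (Crv77.sec_hmap k T.g w).symm.trans ((congrArg (Crv77.sec _) hw).trans (AddEquiv.apply_symm_apply _ _))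
  have hd : πQ.app (V i) (res L (le_top : V i ≤ ⊤) (Crv77.sec L w) - m i) = 0 := by
    rw [map_sub, sub_eq_zero]
    refine (QC70.app_res πQ (le_top : V i ≤ ⊤) (Crv77.sec L w)).trans ?_
    rw [hv]
    exact hq i
  have : Mono T.f := hmono
  obtain ⟨a, ha⟩ := QC70.exists_app_eq_of_exact T hT.exact (V i) _ hd
  exact ⟨a, ha.symm.trans (hφ _ a)⟩

variable [IsProper (X ↘ Spec (CommRingCat.of k))]

/-- Two sections without common zeros: the ratios to one of them generate. -/
theorem closure_eq_top_of_pencil (h0 : Module.finrank k (Coh.HH X (Coh.structureModule X) 0) = 1)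
    (h1 : Subsingleton (Coh.HH X (Coh.structureModule X) 1))
    {L : X.Modules} (hL : PicF.IsInvertible L) (s t : Γ(L, ⊤)) (hs : s ≠ 0) (ht : t ≠ 0)
    (hcov : ∀ x : X, x ∈ CohB1.genLocus L (Var76.Frames.ofSection L s) ∨
      x ∈ CohB1.genLocus L (Var76.Frames.ofSection L t))
    (hU : IsAffineOpen (CohB1.genLocus L (Var76.Frames.ofSection L t)))
    (G : X.Opens) (hGs : G = CohB1.genLocus L (Var76.Frames.ofSection L s)) :
    Subring.closure (Set.range (constH (k := k) G) ∪
      {a | ∃ t : Γ(L, ⊤), a • res L (le_top : G ≤ ⊤) s = res L (le_top : G ≤ ⊤) t}) = ⊤ := by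
  classical
  let U := CohB1.genLocus L (Var76.Frames.ofSection L t)
  let η := genericPoint X
  have hη : η ∈ G := hGs ▸ genericPoint_mem_genLocus hL hs
  have hηU : η ∈ U := genericPoint_mem_genLocus hL ht
  have he : IsFrame L G (res L (le_top : G ≤ ⊤) s) := by
    have h := (isFrame_iff_le_genLocus (Var76.Frames.ofSection L s) G).2 hGs.le
    rwa [Var76.Frames.val_ofSection] at h
  have he' : IsFrame L U (res L (le_top : U ≤ ⊤) t) := by
    have h := (isFrame_iff_le_genLocus (Var76.Frames.ofSection L t) U).2 le_rfl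
    rwa [Var76.Frames.val_ofSection] at h
  have coordG : ∀ m : Γ(L, G), ∃ a : Γ(X, G), a • res L (le_top : G ≤ ⊤) s = m := fun m => by
    obtain ⟨a, ha⟩ := (he G le_rfl).2 m
    exact ⟨a, by simpa only [Amp73.res_self] using ha⟩
  have coordU : ∀ m : Γ(L, U), ∃ a : Γ(X, U), a • res L (le_top : U ≤ ⊤) t = m := fun m => by
    obtain ⟨a, ha⟩ := (he' U le_rfl).2 m
    exact ⟨a, by simpa only [Amp73.res_self] using ha⟩
  obtain ⟨a₀, ha₀⟩ := coordG (res L (le_top : G ≤ ⊤) t)
  obtain ⟨f, hf⟩ := coordU (res L (le_top : U ≤ ⊤) s)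
  let σ : Γ(X, G) →+* X.functionField := (X.presheaf.germ G η hη).hom
  let τ : Γ(X, U) →+* X.functionField := (X.presheaf.germ U η hηU).hom
  let S := Subring.closure (Set.range (constH (k := k) G) ∪
      {a | ∃ t : Γ(L, ⊤), a • res L (le_top : G ≤ ⊤) s = res L (le_top : G ≤ ⊤) t})
  -- comparing the coordinates on the overlap
  have hcomp : ∀ (v : Γ(L, ⊤)) (β : Γ(X, G)) (w : Γ(X, U)),
      β • res L (le_top : G ≤ ⊤) s = res L (le_top : G ≤ ⊤) v →
      w • res L (le_top : U ≤ ⊤) t = res L (le_top : U ≤ ⊤) v → τ w = σ β * τ f := by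
    intro v β w hβ hw
    have h : X.presheaf.map (homOfLE (inf_le_right : G ⊓ U ≤ U)).op w =
        X.presheaf.map (homOfLE (inf_le_left : G ⊓ U ≤ G)).op β *
          X.presheaf.map (homOfLE (inf_le_right : G ⊓ U ≤ U)).op f := by
      refine ((he'.res (inf_le_right : G ⊓ U ≤ U)) _ le_rfl).1 ?_
      dsimp only
      rw [Amp73.res_self, mul_smul, ← res_smul, ← res_smul, hw, hf, res_res, res_res]
      have h2 := congrArg (res L (inf_le_left : G ⊓ U ≤ G)) hβ
      rw [res_smul, res_res, res_res] at h2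
      exact h2.symm
    have h2 := congrArg (X.presheaf.germ (G ⊓ U) η ⟨hη, hηU⟩) h
    rw [map_mul, TopCat.Presheaf.germ_res_apply, TopCat.Presheaf.germ_res_apply,
      TopCat.Presheaf.germ_res_apply] at h2
    exact h2
  have hinv : σ a₀ * τ f = 1 := by
    rw [← hcomp t a₀ 1 ha₀ (one_smul _ _)]
    exact map_one τ
  have key : ∀ (n : ℕ) (b : Γ(X, G)) (c : Γ(X, U)), σ b * τ f ^ n = τ c → b ∈ S := by
    intro n
    induction n with
    | zero =>
      intro b c hbc
      rw [pow_zero, mul_one] at hbc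
      obtain ⟨g, hg⟩ := exists_section_of_regAt (⊤ : X.Opens) (trivial : η ∈ (⊤ : X.Opens)) (σ b) (fun y _ => by
        rcases hcov y with hy | hy
        · exact ⟨_, algebraMap_germ y (show y ∈ G by rw [hGs]; exact hy) b⟩
        · exact ⟨_, (algebraMap_germ y hy c).trans hbc.symm⟩)
      obtain ⟨r, rfl⟩ := Crv77.onlyConst_of_finrank k h0 g
      have hb : b = constH G r := by
        refine germ_injective_of_isIntegral X η hη ?_
        refine hg.symm.trans ?_
        exact (TopCat.Presheaf.germ_res_apply X.presheaf (homOfLE (le_top : G ≤ ⊤)) η hη _).symm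
      exact Subring.subset_closure (Or.inl ⟨r, hb.symm⟩)
    | succ n ih =>
      intro b c hbc
      let V : ULift.{u} Bool → X.Opens := fun i => if i.down then U else G
      let m : ∀ i, Γ(L, V i) := fun i => match i with
        | ⟨true⟩ => c • res L (le_top : U ≤ ⊤) t
        | ⟨false⟩ => 0
      have hrs : ∀ (W : X.Opens) (hWG : W ≤ G) (hWU : W ≤ U), ∃ e : Γ(X, W),
          res L hWU (c • res L (le_top : U ≤ ⊤) t) = e • res L (le_top : W ≤ ⊤) s := fun W hWG hWU => by
        refine ⟨X.presheaf.map (homOfLE hWU).op c * X.presheaf.map (homOfLE hWG).op a₀, ?_⟩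
        have h2 := congrArg (res L hWG) ha₀
        rw [res_smul, res_res, res_res] at h2
        rw [res_smul, res_res, mul_smul, ← h2]
      obtain ⟨v, hv⟩ := exists_lift_of_glue k h1 hL s hs V
        (fun x => (hcov x).elim (fun h => ⟨⟨false⟩, show x ∈ G by rw [hGs]; exact h⟩) (fun h => ⟨⟨true⟩, h⟩))
        m (by
          rintro ⟨i⟩ ⟨j⟩
          cases i <;> cases j
          · exact ⟨0, by rw [zero_smul]; exact sub_self _⟩
          · obtain ⟨e, he⟩ := hrs (G ⊓ U) inf_le_left inf_le_right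
            exact ⟨-e, by
              show res L inf_le_left (0 : Γ(L, V ⟨false⟩)) - res L inf_le_right (m ⟨true⟩) = _
              refine (congrArg (· - _) (map_zero _)).trans ?_
              rw [zero_sub, neg_smul]
              exact congrArg Neg.neg he⟩
          · obtain ⟨e, he⟩ := hrs (U ⊓ G) inf_le_right inf_le_left
            exact ⟨e, by
              show res L inf_le_left (m ⟨true⟩) - res L inf_le_right (0 : Γ(L, V ⟨false⟩)) = _
              refine (congrArg (_ - ·) (map_zero _)).trans ?_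
              rw [sub_zero]
              exact he⟩
          · exact ⟨0, by rw [zero_smul]; exact sub_self _⟩)
      obtain ⟨a, ha⟩ : ∃ a : Γ(X, U), res L (le_top : U ≤ ⊤) v - c • res L (le_top : U ≤ ⊤) t =
          a • res L (le_top : U ≤ ⊤) s := hv ⟨true⟩
      obtain ⟨β, hβ⟩ := coordG (res L (le_top : G ≤ ⊤) v)
      have hβS : β ∈ S := Subring.subset_closure (Or.inr ⟨v, hβ⟩)
      have haS : a₀ ∈ S := Subring.subset_closure (Or.inr ⟨t, ha₀⟩)
      have hw : (c + a * f) • res L (le_top : U ≤ ⊤) t = res L (le_top : U ≤ ⊤) v := by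
        rw [add_smul, mul_smul, hf]
        exact (eq_add_of_sub_eq' ha).symm
      have h3 := hcomp v β _ hβ hw
      rw [map_add, map_mul] at h3
      have hb' : b - β * a₀ ^ n ∈ S := by
        refine ih _ (-a) ?_
        have hpn : σ a₀ ^ n * τ f ^ n = 1 := by rw [← mul_pow, hinv, one_pow]
        refine mul_right_cancel₀ (b := τ f) (fun h => zero_ne_one (α := X.functionField) (by
          rw [← hinv, h, mul_zero])) ?_
        rw [map_sub, map_mul, map_pow, map_neg]
        linear_combination hbc + h3 - (σ β * τ f) * hpn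
      rw [← sub_add_cancel b (β * a₀ ^ n)]
      exact S.add_mem hb' (S.mul_mem hβS (S.pow_mem haS n))
  refine eq_top_iff.2 fun b _ => ?_
  have hW : CohB1.genLocus L (Var76.Frames.ofSection L s) ⊓ U = X.basicOpen f :=
    genLocus_inf_eq_basicOpen (Var76.Frames.ofSection L s) he'
      (hf.trans (Var76.Frames.val_ofSection L s U).symm)
  rw [← hGs] at hW
  have := hU.isLocalization_basicOpen f
  obtain ⟨⟨c, ⟨_, n, rfl⟩⟩, hc⟩ := IsLocalization.surj (Submonoid.powers f)
    (X.presheaf.map (homOfLE (hW.ge.trans inf_le_left)).op b)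
  refine key n b c ?_
  have h4 := congrArg (X.presheaf.germ (X.basicOpen f) η (hW ▸ ⟨hη, hηU⟩)) hc
  have hmap : ∀ z : Γ(X, U), X.presheaf.germ (X.basicOpen f) η (hW ▸ ⟨hη, hηU⟩)
      (algebraMap Γ(X, U) Γ(X, X.basicOpen f) z) = τ z := fun z =>
    TopCat.Presheaf.germ_res_apply X.presheaf (homOfLE (X.basicOpen_le f)) η _ z
  rw [map_mul, hmap, hmap, TopCat.Presheaf.germ_res_apply, map_pow] at h4
  exact h4

/-- A partner for a nonzero section: a section generating where it vanishes. -/
theorem exists_partner (hdim : topologicalKrullDim X = 1)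
    (h0 : Module.finrank k (Coh.HH X (Coh.structureModule X) 0) = 1)
    (h1 : Subsingleton (Coh.HH X (Coh.structureModule X) 1))
    {L : X.Modules} (hL : PicF.IsInvertible L) (hdeg : 0 ≤ Curv2.deg k X L 1) (s : Γ(L, ⊤)) (hs : s ≠ 0) :
    ∃ t : Γ(L, ⊤), ∀ x : X, x ∈ CohB1.genLocus L (Var76.Frames.ofSection L s) ∨
      x ∈ CohB1.genLocus L (Var76.Frames.ofSection L t) := by
  classical
  have := Crv77.isNoetherian_of_proper k X
  have hX := Crv77.curveCoh_of_proper k X hdim.le
  let G := CohB1.genLocus L (Var76.Frames.ofSection L s)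
  obtain ⟨hfin, hcl⟩ := Crv77.finite_closed hdim.le (U := G) ⟨_, genericPoint_mem_genLocus hL hs⟩
  have hgg := hX.isGloballyGenerated_of_deg hdim h0 hL (by
    rw [show Curv2.genus k X = 0 from Module.finrank_zero_of_subsingleton]
    simpa using hdeg)
  have hgen : ∀ x : ((G : Set X)ᶜ : Set X), ∃ t : Γ(L, ⊤), x.1 ∈ CohB1.genLocus L (Var76.Frames.ofSection L t) :=
    fun x => Crv77.exists_gen_of_isGloballyGenerated hL hgg (hcl x.1 x.2)
  choose t ht using hgen
  let W : ∀ x : ((G : Set X)ᶜ : Set X), X.Opens := fun x =>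
    Crv77.complOpen (hfin.subset (Set.sdiff_subset : (G : Set X)ᶜ \ {x.1} ⊆ _)) (fun y hy => hcl y hy.1) ⊓
      CohB1.genLocus L (Var76.Frames.ofSection L (t x))
  let V : Option ((G : Set X)ᶜ : Set X) → X.Opens := fun o => o.elim G W
  let m : ∀ o, Γ(L, V o) := fun o => match o with
    | none => 0
    | some x => res L (le_top : W x ≤ ⊤) (t x)
  have hfr : ∀ (Z : X.Opens), Z ≤ G → ∀ z : Γ(L, Z), ∃ c : Γ(X, Z), z = c • res L (le_top : Z ≤ ⊤) s := by
    intro Z hZ z
    have he := (isFrame_iff_le_genLocus (Var76.Frames.ofSection L s) Z).2 hZ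
    rw [Var76.Frames.val_ofSection] at he
    obtain ⟨c, hc⟩ := (he Z le_rfl).2 z
    exact ⟨c, by simpa only [Amp73.res_self] using hc.symm⟩
  have hpair : ∀ o o', o ≠ o' → V o ⊓ V o' ≤ G := by
    rintro (_ | x) (_ | y) hne
    · exact absurd rfl hne
    · exact inf_le_left
    · exact inf_le_right
    · intro z hz
      by_contra hzG
      have h5 : z = x.1 := by
        by_contra hzx
        exact hz.1.1 ⟨hzG, hzx⟩
      have h6 : z = y.1 := by
        by_contra hzy
        exact hz.2.1 ⟨hzG, hzy⟩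
      exact hne (congrArg some (Subtype.ext (h5.symm.trans h6)))
  obtain ⟨v, hv⟩ := exists_lift_of_glue k h1 hL s hs V (fun x => by
      by_cases hx : x ∈ G
      · exact ⟨none, hx⟩
      · exact ⟨some ⟨x, hx⟩, ⟨fun h => h.2 rfl, ht ⟨x, hx⟩⟩⟩) m (fun o o' => by
      by_cases hoo : o = o'
      · subst hoo
        exact ⟨0, by rw [zero_smul]; exact sub_self _⟩
      · exact hfr _ (hpair o o' hoo) _)
  refine ⟨v, fun x => ?_⟩
  by_cases hx : x ∈ G
  · exact Or.inl hx
  refine Or.inr ?_
  let p : ((G : Set X)ᶜ : Set X) := ⟨x, hx⟩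
  let Z := W p
  obtain ⟨a, ha⟩ : ∃ a : Γ(X, Z), res L (le_top : Z ≤ ⊤) v - res L (le_top : Z ≤ ⊤) (t p) =
      a • res L (le_top : Z ≤ ⊤) s := hv (some p)
  have hxZ : x ∈ Z := ⟨fun h => h.2 rfl, ht p⟩
  have he : IsFrame L Z (res L (le_top : Z ≤ ⊤) (t p)) := by
    have h := (isFrame_iff_le_genLocus (Var76.Frames.ofSection L (t p)) Z).2 inf_le_right
    rwa [Var76.Frames.val_ofSection] at h
  obtain ⟨f, hf⟩ := (he Z le_rfl).2 (res L (le_top : Z ≤ ⊤) s)
  dsimp only at hf
  rw [Amp73.res_self] at hf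
  have hv' : res L (le_top : Z ≤ ⊤) v = (1 + a * f) • res L (le_top : Z ≤ ⊤) (t p) := by
    rw [add_smul, one_smul, mul_smul, hf]
    exact eq_add_of_sub_eq' ha
  have hfx : ¬ IsUnit (X.presheaf.germ Z x hxZ f) := fun h => by
    refine hx (mem_genLocus_iff.2 ⟨X.basicOpen f, (X.mem_basicOpen f x hxZ).2 h, ?_⟩)
    rw [Var76.Frames.val_ofSection, show res L (le_top : X.basicOpen f ≤ ⊤) s =
      res L (X.basicOpen_le f) (res L le_top s) from (res_res _ _ _ _).symm, ← hf, res_smul]
    exact (isFrame_smul_iff (he.res (X.basicOpen_le f)) _).2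
      (RingedSpace.isUnit_res_basicOpen X.toLocallyRingedSpace.toRingedSpace f)
  have hu : IsUnit (X.presheaf.germ Z x hxZ (1 + a * f)) := by
    rw [map_add, map_one, map_mul]
    by_contra h
    have h7 : X.presheaf.germ Z x hxZ a * X.presheaf.germ Z x hxZ f ∈ IsLocalRing.maximalIdeal _ :=
      Ideal.mul_mem_left _ _ hfx
    have h8 := Ideal.sub_mem _ (show _ ∈ IsLocalRing.maximalIdeal _ from h) h7
    rw [add_sub_cancel_right] at h8
    exact h8 isUnit_one
  refine mem_genLocus_iff.2 ⟨X.basicOpen (1 + a * f), (X.mem_basicOpen _ x hxZ).2 hu, ?_⟩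
  rw [Var76.Frames.val_ofSection, show res L (le_top : X.basicOpen (1 + a * f) ≤ ⊤) v =
    res L (X.basicOpen_le (1 + a * f)) (res L le_top v) from (res_res _ _ _ _).symm, hv', res_smul]
  exact (isFrame_smul_iff (he.res (X.basicOpen_le (1 + a * f))) _).2
    (RingedSpace.isUnit_res_basicOpen X.toLocallyRingedSpace.toRingedSpace _)

end Groth.Agent.Curves2.VeryAmple
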