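import Groth.Agent.Crv77.RR
import Groth.Agent.Crv77.PointTwist
import Groth.Agent.Amp73.PullTensor
import Groth.Agent.Amp73.Pullback
import Groth.Agent.QCqs72.Basic

/-!
Invertible modules of degree at least `2g+1` separate closed subschemes of length two
-/

set_option autoImplicit false
set_option linter.style.haveILetI false
set_option backward.isDefEq.respectTransparency false
set_option backward.isDefEq.respectTransparency.types false

universe u

open CategoryTheory CategoryTheory.Limits AlgebraicGeometry TopologicalSpace Opposite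
open Groth.Agent.Var76.LineBundle Groth.Agent.Var76.ZeroScheme Groth.Agent.Amp73

noncomputable section

namespace Groth.Agent.Curves2.VeryAmple

variable {k : Type u} [Field k] {X : Scheme.{u}} [X.Over (Spec (CommRingCat.of k))]

/-- The constants in the functions on an open. -/
def constH (G : X.Opens) : k →+* Γ(X, G) :=
  (X.presheaf.map (homOfLE (le_top : G ≤ ⊤)).op).hom.comp
    (Coh.toGlobal (X ↘ Spec (CommRingCat.of k)) : k →+* Γ(X, ⊤))

theorem res_sec_smul {M : X.Modules} (G : X.Opens) (a : k) (x : Coh.HH X M 0) :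
    res M (le_top : G ≤ ⊤) (Crv77.sec M (a • x)) =
      constH G a • res M (le_top : G ≤ ⊤) (Crv77.sec M x) := by
  rw [Crv77.sec_smul k, res_smul]
  rfl

theorem constH_eq_appLE (G : X.Opens) :
    (constH G : k →+* Γ(X, G)) = (((X ↘ Spec (CommRingCat.of k))).appLE ⊤ G le_top).hom.comp
      (Scheme.ΓSpecIso (CommRingCat.of k)).inv.hom := rfl

theorem appLE_fromSpec_quotient {G : X.Opens} (hG : IsAffineOpen G) (J : Ideal Γ(X, G)) (a : Γ(X, G))
    (h : (⊤ : (Spec (CommRingCat.of (Γ(X, G) ⧸ J))).Opens) ≤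
      (Spec.map (CommRingCat.ofHom (Ideal.Quotient.mk J)) ≫ hG.fromSpec) ⁻¹ᵁ G) :
    (Spec.map (CommRingCat.ofHom (Ideal.Quotient.mk J)) ≫ hG.fromSpec).appLE G ⊤ h a =
      (Scheme.ΓSpecIso (CommRingCat.of (Γ(X, G) ⧸ J))).inv (Ideal.Quotient.mk J a) := by
  have e0 : hG.fromSpec.appLE G ⊤ hG.fromSpec_preimage_self.ge = (Scheme.ΓSpecIso Γ(X, G)).inv := by
    rw [Scheme.Hom.appLE, hG.fromSpec_app_self, Category.assoc, ← Functor.map_comp]
    simp
  have e1 : (Spec.map (CommRingCat.ofHom (Ideal.Quotient.mk J)) ≫ hG.fromSpec).appLE G ⊤ h =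
      CommRingCat.ofHom (Ideal.Quotient.mk J) ≫ (Scheme.ΓSpecIso (CommRingCat.of (Γ(X, G) ⧸ J))).inv := by
    rw [← Scheme.Hom.appLE_comp_appLE _ _ G ⊤ ⊤ hG.fromSpec_preimage_self.ge le_top, e0,
      Scheme.ΓSpecIso_inv_naturality, Scheme.Hom.appLE]
    simp
    rfl
  rw [e1]
  rfl

variable [IsIntegral X] [IsProper (X ↘ Spec (CommRingCat.of k))]

/-- A finite closed subscheme on which all ratios of sections are constant has length at most one. -/
theorem exists_sub_const_mem (hdim : topologicalKrullDim X = 1)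
    (h0 : Module.finrank k (Coh.HH X (Coh.structureModule X) 0) = 1)
    (L : X.Modules) (hL : PicF.IsInvertible L)
    (hdeg : 2 * (Curv2.genus k X : ℤ) + 1 ≤ Curv2.deg k X L 1) (s : Γ(L, ⊤))
    (G : X.Opens) (hG : IsAffineOpen G) (hle : G ≤ CohB1.genLocus L (Var76.Frames.ofSection L s))
    (J : Ideal Γ(X, G))
    (hfin : ((Ideal.Quotient.mk J).comp (constH (k := k) G)).Finite)
    (hJ : ∀ (t : Γ(L, ⊤)) (a : Γ(X, G)),
      a • res L (le_top : G ≤ ⊤) s = res L (le_top : G ≤ ⊤) t → ∃ c : k, a - constH G c ∈ J)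
    (b : Γ(X, G)) : ∃ c : k, b - constH G c ∈ J := by
  classical
  by_contra hcon
  push Not at hcon
  have := Crv77.isNoetherian_of_proper k X
  have hX := Crv77.curveCoh_of_proper k X hdim.le
  let π := X ↘ Spec (CommRingCat.of k)
  let R := CommRingCat.of (Γ(X, G) ⧸ J)
  let ι : Spec R ⟶ X := Spec.map (CommRingCat.ofHom (Ideal.Quotient.mk J)) ≫ hG.fromSpec
  have hιG : (⊤ : (Spec R).Opens) ≤ ι ⁻¹ᵁ G := fun p _ => by
    show hG.fromSpec (Spec.map (CommRingCat.ofHom (Ideal.Quotient.mk J)) p) ∈ (G : Set X)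
    rw [← hG.range_fromSpec]
    exact ⟨_, rfl⟩
  have hcomp : ι ≫ π = Spec.map (CommRingCat.ofHom ((Ideal.Quotient.mk J).comp (constH (k := k) G))) := by
    have e := IsAffineOpen.SpecMap_appLE_fromSpec π (isAffineOpen_top _) hG (le_top : G ≤ π ⁻¹ᵁ ⊤)
    rw [show ι ≫ π = Spec.map _ ≫ (hG.fromSpec ≫ π) from Category.assoc _ _ _, ← e, IsAffineOpen.fromSpec_top]
    rw [← Category.assoc, ← Spec.map_comp, Scheme.isoSpec_Spec_inv, ← Spec.map_comp]
    rfl
  have : IsFinite (ι ≫ π) := by
    rw [hcomp]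
    exact (IsFinite.SpecMap_iff _).2 hfin
  have : IsProper (ι ≫ π) := inferInstance
  have : IsProper ι := IsProper.of_comp ι π
  letI algR : Algebra k (Γ(X, G) ⧸ J) := ((Ideal.Quotient.mk J).comp (constH (k := k) G)).toAlgebra
  haveI : Module.Finite k (Γ(X, G) ⧸ J) := hfin
  have : IsArtinianRing (Γ(X, G) ⧸ J) := IsArtinianRing.of_finite k _
  let S : Set X := Set.range ι
  have hS : S.Finite := @Set.finite_range _ _ _ (inferInstanceAs (Finite (PrimeSpectrum (Γ(X, G) ⧸ J))))
  have hcl : ∀ x ∈ S, IsClosed ({x} : Set X) := by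
    rintro _ ⟨p, rfl⟩
    have hp : IsClosed ({p} : Set (PrimeSpectrum (Γ(X, G) ⧸ J))) :=
      (PrimeSpectrum.isClosed_singleton_iff_isMaximal p).2 (IsArtinianRing.isMaximal_of_isPrime p.asIdeal)
    have h2 := ι.isClosedMap _ hp
    rwa [Set.image_singleton] at h2
  -- the evaluation map
  let η : L ⟶ (Scheme.Modules.pushforward ι).obj ((Scheme.Modules.pullback ι).obj L) :=
    (Scheme.Modules.pullbackPushforwardAdjunction ι).unit.app L
  have hLc := Crv77.isCoh_of_isInvertible hL
  have := hLc.1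
  have := hLc.2
  have hLι := isInvertible_pullback ι hL
  have := (Crv77.isCoh_of_isInvertible hLι).1
  have : ((Scheme.Modules.pushforward ι).obj ((Scheme.Modules.pullback ι).obj L)).IsQuasicoherent :=
    QCqs72.isQuasicoherent_pushforward _ ι
  have hF : Coh.IsCoh (kernel η) := ⟨QC70.isQuasicoherent_kernel η, QC70.isFiniteType_kernel η⟩
  have hQ : Coh.IsCoh (cokernel (kernel.ι η)) := Crv77.isCoh_cokernel _ hF hLc
  let Q := cokernel (kernel.ι η)
  let T := ShortComplex.mk (kernel.ι η) (cokernel.π (kernel.ι η)) (cokernel.condition _)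
  have hT : T.ShortExact :=
    { exact := ShortComplex.exact_of_g_is_cokernel _ (cokernelIsCokernel _)
      mono_f := inferInstanceAs (Mono (kernel.ι η))
      epi_g := inferInstanceAs (Epi (cokernel.π _)) }
  have hsupp : Crv77.SuppIn Q S := fun x hx => QC70.subsingleton_stalk_cokernel _ x fun w => by
    obtain ⟨U, hxU, m, rfl⟩ := TopCat.Presheaf.exists_germ_eq L.presheaf w
    let U' := U ⊓ Crv77.complOpen hS hcl
    have hz : η.app U' (res L inf_le_left m) = 0 := by
      refine QC70.section_ext ((Scheme.Modules.pullback ι).obj L) (U := ι ⁻¹ᵁ U') _ 0 fun p hp => ?_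
      exact absurd ⟨p, rfl⟩ hp.2
    obtain ⟨y, hy⟩ := QC70.exists_kernel_app_eq η U' _ hz
    refine ⟨QC70.germM _ U' x ⟨hxU, hx⟩ y, ?_⟩
    rw [QC70.stalkMapM_germ, hy]
    exact TopCat.Presheaf.germ_res_apply _ _ _ _ _
  -- the frame on `G`
  let e : Γ(L, G) := res L (le_top : G ≤ ⊤) s
  have he : IsFrame L G e := by
    have h1 := (isFrame_iff_le_genLocus (Var76.Frames.ofSection L s) G).2 hle
    rwa [Var76.Frames.val_ofSection] at h1
  have coord : ∀ m : Γ(L, G), ∃ a : Γ(X, G), a • e = m := fun m => by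
    obtain ⟨a, ha⟩ := (he G le_rfl).2 m
    exact ⟨a, by simpa only [Amp73.res_self] using ha⟩
  have einj : ∀ a a' : Γ(X, G), a • e = a' • e → a = a' := fun a a' h => (he G le_rfl).1 (by
    simpa only [Amp73.res_self] using h)
  let eT := res _ hιG (pullS ι L G e)
  have heT : IsFrame _ ⊤ eT := (isFrame_pullS ι hL he).res hιG
  have hker : ∀ a : Γ(X, G), res _ hιG (pullS ι L G (a • e)) = 0 ↔ a ∈ J := fun a => by
    rw [pullS_smul, res_smul]
    change ι.appLE G ⊤ hιG a • eT = 0 ↔ _
    rw [appLE_fromSpec_quotient hG J a hιG, ← Ideal.Quotient.eq_zero_iff_mem]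
    constructor
    · intro h
      refine (ConcreteCategory.bijective_of_isIso (Scheme.ΓSpecIso R).inv).1
        (((heT _ le_rfl).1 ?_).trans (map_zero _).symm)
      show _ • res _ le_rfl eT = (0 : Γ(Spec R, ⊤)) • res _ le_rfl eT
      rw [Amp73.res_self, zero_smul]
      exact h
    · intro h
      rw [h, map_zero, zero_smul]
  -- two independent classes in the cokernel
  let q : Γ(X, G) → Γ(Q, G) := fun a => (cokernel.π (kernel.ι η)).app G (a • e)
  have hq : ∀ a, q a = 0 → a ∈ J := fun a h => by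
    obtain ⟨y, hy⟩ := QC70.exists_app_eq_of_exact T hT.exact G (a • e) h
    refine (hker a).1 ?_
    have h3 : η.app G (a • e) = 0 := by
      rw [← hy]
      exact QC70.app_f_g (ShortComplex.mk (kernel.ι η) η (kernel.condition η)) G y
    rw [show pullS ι L G (a • e) = 0 from h3]
    exact map_zero _
  obtain ⟨t₁, ht₁⟩ := hsupp.surjective_res hS hcl (le_top : G ≤ ⊤) (q 1)
  obtain ⟨t₂, ht₂⟩ := hsupp.surjective_res hS hcl (le_top : G ≤ ⊤) (q b)
  have hQ2 : 2 ≤ Module.finrank k (Coh.HH X Q 0) := by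
    have := hX.finite _ hQ 0
    have hind : LinearIndependent k ![(Crv77.sec Q).symm t₁, (Crv77.sec Q).symm t₂] := by
      refine LinearIndependent.pair_iff.2 fun c d hcd => ?_
      have h := congrArg (fun z => res Q (le_top : G ≤ ⊤) (Crv77.sec Q z)) hcd
      rw [map_add, map_zero] at h
      rw [Amp73.res_add, res_sec_smul, res_sec_smul, AddEquiv.apply_symm_apply, AddEquiv.apply_symm_apply,
        show res Q (le_top : G ≤ ⊤) t₁ = q 1 from ht₁, show res Q (le_top : G ≤ ⊤) t₂ = q b from ht₂,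
        show res Q (le_top : G ≤ ⊤) 0 = 0 from map_zero _] at h
      have hmem : constH G c + constH G d * b ∈ J := hq _ (by
        simp only [q, add_smul, mul_smul, map_add, Scheme.Modules.Hom.app_smul]
        simp only [q, one_smul, Scheme.Modules.Hom.app_smul] at h
        exact h)
      have hd : d = 0 := by
        by_contra hd
        refine hcon (-c / d) ?_
        have := J.mul_mem_left (constH G d⁻¹) hmem
        convert this using 1
        rw [mul_add, ← mul_assoc, ← map_mul, ← map_mul, inv_mul_cancel₀ hd, map_one, one_mul,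
          show -c / d = -(d⁻¹ * c) by ring, map_neg]
        ring
      refine ⟨?_, hd⟩
      by_contra hc
      refine hcon 0 ?_
      rw [hd, map_zero, zero_mul, add_zero] at hmem
      have h1 : J = ⊤ := J.eq_top_of_isUnit_mem hmem ((IsUnit.mk0 c hc).map _)
      rw [h1]
      trivial
    simpa using hind.fintype_card_le_finrank
  -- sections restricting to constants
  choose co hco using fun x : Coh.HH X L 0 => coord (res L (le_top : G ≤ ⊤) (Crv77.sec L x))
  let Φ : Coh.HH X L 0 →ₗ[k] Γ(X, G) ⧸ J :=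
    { toFun := fun x => Ideal.Quotient.mk J (co x)
      map_add' := fun x y => by
        rw [← map_add]
        exact congrArg _ (einj _ _ (by rw [add_smul, hco, hco, hco, map_add, Amp73.res_add]))
      map_smul' := fun r x => by
        rw [Algebra.smul_def, RingHom.id_apply]
        show _ = Ideal.Quotient.mk J (constH G r) * _
        rw [← map_mul]
        exact congrArg _ (einj _ _ (by rw [mul_smul, hco, hco, res_sec_smul])) }
  have := hX.finite _ hLc 0
  have := hX.finite _ hF 0
  have hrange : Module.finrank k (LinearMap.range Φ) ≤ 1 := by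
    refine (Submodule.finrank_mono (t := Submodule.span k {(1 : Γ(X, G) ⧸ J)}) ?_).trans
      ((finrank_span_le_card _).trans (by simp))
    rintro _ ⟨x, rfl⟩
    obtain ⟨c, hc⟩ := hJ (Crv77.sec L x) (co x) (hco x)
    refine Submodule.mem_span_singleton.2 ⟨c, ?_⟩
    rw [Algebra.smul_def, mul_one]
    exact ((Ideal.Quotient.mk_eq_mk_iff_sub_mem (I := J) _ _).2 hc).symm
  have hkerle : LinearMap.ker Φ ≤ LinearMap.range (Crv77.hmap k (kernel.ι η) 0) := fun x hx => by
    have hxJ : co x ∈ J := Ideal.Quotient.eq_zero_iff_mem.1 hx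
    have hz : η.app ⊤ (Crv77.sec L x) = 0 := by
      show pullS ι L ⊤ (Crv77.sec L x) = 0
      have h1 := congrArg (res _ hιG) (res_pullS ι L (le_top : G ≤ ⊤) (Crv77.sec L x))
      rw [← hco x, (hker _).2 hxJ, res_res] at h1
      rwa [Amp73.res_self] at h1
    obtain ⟨y, hy⟩ := QC70.exists_kernel_app_eq η ⊤ _ hz
    refine ⟨(Crv77.sec _).symm y, (Crv77.sec L).injective ?_⟩
    rw [Crv77.sec_hmap k, AddEquiv.apply_symm_apply, hy]
  have hF0 : Module.finrank k (Coh.HH X L 0) ≤ Module.finrank k (Coh.HH X (kernel η) 0) + 1 := by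
    have := LinearMap.finrank_range_add_finrank_ker Φ
    have := Submodule.finrank_mono hkerle
    have := LinearMap.finrank_range_le (Crv77.hmap k (kernel.ι η) 0)
    omega
  have e1 := hX.euler_add hT hF hLc
  change Curv2.euler k X L = Curv2.euler k X (kernel η) + Curv2.euler k X Q at e1
  rw [hX.euler_eq_of_suppIn hQ hsupp hS hcl, hX.euler_eq hF, hX.euler_eq hLc] at e1
  have hr := hX.riemann h0 hLc
  simp only [Crv77.h, Q] at e1 hr hQ2
  rcases subsingleton_or_nontrivial (Coh.HH X (kernel η) 1) with hs | hs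
  · rw [Module.finrank_zero_of_subsingleton (M := Coh.HH X (kernel η) 1)] at e1
    omega
  · have := hX.h0_le_genus hdim.le hF hL (kernel.ι η) hs
    omega

end Groth.Agent.Curves2.VeryAmple
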